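import Cfsg.Agent.SmallGraph.Degrees
import Cfsg.Agent.SmallOrder.Basic
import Cfsg.Agent.S4774
import Cfsg.Agent.S4812
import Cfsg.Agent.S4782
import Cfsg.Agent.S0157
import Cfsg.Agent.S2551
import Cfsg.Agent.S0494
import Cfsg.Agent.S0495
import Cfsg.Agent.S0497
import Cfsg.Agent.S0498
import Cfsg.Agent.S0981
import Cfsg.Agent.S0984
import Cfsg.Agent.S1011
import Cfsg.Agent.S1020
import Cfsg.Agent.S1021
import Cfsg.Agent.Classical.SmallPSL

/-!
# Degree graphs of the simple groups of order below 6000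
-/

set_option autoImplicit false

namespace Cfsg.Agent.SmallGraph

open Subgroup

universe u

theorem mem_of_adj {G : Type u} [Group G] {p q : ℕ} (h : (Cfsg.degreeGraph G).Adj p q) :
    p ∈ Cfsg.degreePrimes G ∧ q ∈ Cfsg.degreePrimes G := by
  obtain ⟨-, hp, hq, e, he, hd⟩ := h
  exact ⟨⟨hp, e, he, (dvd_mul_right p q).trans hd⟩, ⟨hq, e, he, (dvd_mul_left q p).trans hd⟩⟩

theorem psl_even {S : Type u} [Group S] [Finite S] {F : Type} [Field F] [Fintype F] [CharP F 2]
    {q : ℕ} (hq : Fintype.card F = q) (h4 : 4 ≤ q)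
    (h : Nonempty (S ≃* Matrix.ProjectiveSpecialLinearGroup (Fin 2) F)) :
    (∀ r : ℕ, r.Prime → r ∣ q * (q ^ 2 - 1) → r ∈ Cfsg.degreePrimes S) ∧
    ∀ r s : ℕ, (Cfsg.degreeGraph S).Adj r s ↔ (r ≠ s ∧ r.Prime ∧ s.Prime ∧
      ((r ∣ q + 1 ∧ s ∣ q + 1) ∨ (r ∣ q - 1 ∧ s ∣ q - 1))) := by
  obtain ⟨h1, h2⟩ := S4812.result F q hq h4 (Or.inl h)
  exact ⟨fun r hr hd => by rw [h1]; exact ⟨hr, hd⟩, h2⟩

theorem psl_odd {S : Type u} [Group S] [Finite S] {F : Type} [Field F] [Fintype F] (t : ℕ)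
    [Fact t.Prime] [CharP F t] (ht : t ≠ 2) {q : ℕ} (hq : Fintype.card F = q) (h5 : 5 < q)
    (h : Nonempty (S ≃* Matrix.ProjectiveSpecialLinearGroup (Fin 2) F)) :
    (∀ r : ℕ, r.Prime → r ∣ q * (q ^ 2 - 1) → r ∈ Cfsg.degreePrimes S) ∧
    ∀ r s : ℕ, (Cfsg.degreeGraph S).Adj r s ↔ (r ≠ s ∧ r.Prime ∧ s.Prime ∧ r ∣ q ^ 2 - 1 ∧
      s ∣ q ^ 2 - 1 ∧ (r = 2 ∨ s = 2 ∨ (r ∣ q + 1 ∧ s ∣ q + 1) ∨ (r ∣ q - 1 ∧ s ∣ q - 1))) := by
  obtain ⟨h1, h2⟩ := S4774.result F t ht q hq h5 (Or.inl h)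
  exact ⟨fun r hr hd => by rw [h1]; exact ⟨hr, hd⟩, h2⟩

variable (S : Type u) [Group S] [Finite S] [IsSimpleGroup S]

theorem facts_60 (h : Nat.card S = 60) :
    3 ∈ Cfsg.degreePrimes S ∧ 5 ∈ Cfsg.degreePrimes S := by
  have : Fintype (GaloisField 2 2) := Fintype.ofFinite _
  have hF : Fintype.card (GaloisField 2 2) = 4 := by
    rw [← Nat.card_eq_fintype_card, GaloisField.card 2 2 (by norm_num)]; norm_num
  obtain ⟨e⟩ := Classical.Small.psl_two_sixty (F := GaloisField 2 2) (Or.inl hF)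
  obtain ⟨f⟩ := S0494.result h
  have h1 := (psl_even hF le_rfl ⟨f.trans e.symm⟩).1
  exact ⟨h1 3 Nat.prime_three (by norm_num), h1 5 Nat.prime_five (by norm_num)⟩

theorem facts_168 (h : Nat.card S = 168) :
    7 ∈ Cfsg.degreePrimes S ∧ 2 ∈ Cfsg.degreePrimes S ∧ (Cfsg.degreeGraph S).Adj 2 3 := by
  have : Fact (Nat.Prime 7) := ⟨by norm_num⟩
  obtain ⟨h1, h2⟩ := psl_odd (q := 7) 7 (by norm_num) (ZMod.card 7) (by norm_num)
    (S0495.result h (F := ZMod 7) (ZMod.card 7))
  exact ⟨h1 7 (by norm_num) (by norm_num), h1 2 Nat.prime_two (by norm_num),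
    (h2 2 3).2 ⟨by norm_num, Nat.prime_two, Nat.prime_three, by norm_num, by norm_num, Or.inl rfl⟩⟩

theorem facts_360 (h : Nat.card S = 360) :
    5 ∈ Cfsg.degreePrimes S ∧ (Cfsg.degreeGraph S).Adj 2 5 ∧ ¬ (Cfsg.degreeGraph S).Adj 2 3 := by
  have : Fact (Nat.Prime 3) := ⟨Nat.prime_three⟩
  have : Fintype (GaloisField 3 2) := Fintype.ofFinite _
  have hF : Fintype.card (GaloisField 3 2) = 9 := by
    rw [← Nat.card_eq_fintype_card, GaloisField.card 3 2 (by norm_num)]; norm_num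
  have hs : IsSimpleGroup (Matrix.ProjectiveSpecialLinearGroup (Fin 2) (GaloisField 3 2)) :=
    Classical.isSimpleGroup_psl (Or.inr ⟨by simp, Classical.Small.exists_sq_ne_one (by omega)⟩)
  have hc : Nat.card (Matrix.ProjectiveSpecialLinearGroup (Fin 2) (GaloisField 3 2)) = 360 := by
    have h1 := Classical.card_psl_mul (F := GaloisField 3 2) (ι := Fin 2)
    have h2 := Classical.card_sl_mul (F := GaloisField 3 2) hF 2 (by norm_num)
    rw [Fintype.card_fin, hF] at h1
    rw [Fin.prod_univ_two] at h2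
    norm_num [-Nat.card_eq_fintype_card] at h1 h2
    omega
  obtain ⟨e⟩ := S0497.result hc
  obtain ⟨f⟩ := S0497.result h
  obtain ⟨h1, h2⟩ := psl_odd 3 (by norm_num) hF (by norm_num) ⟨f.trans e.symm⟩
  refine ⟨h1 5 Nat.prime_five (by norm_num), (h2 2 5).2 ⟨by norm_num, Nat.prime_two,
    Nat.prime_five, by norm_num, by norm_num, Or.inl rfl⟩, fun hadj => ?_⟩
  have := ((h2 2 3).1 hadj).2.2.2.2.1
  norm_num at this

theorem facts_504 (h : Nat.card S = 504) :
    7 ∈ Cfsg.degreePrimes S ∧ 2 ∈ Cfsg.degreePrimes S ∧ ¬ (Cfsg.degreeGraph S).Adj 2 3 := by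
  have : Fintype (GaloisField 2 3) := Fintype.ofFinite _
  have hF : Fintype.card (GaloisField 2 3) = 8 := by
    rw [← Nat.card_eq_fintype_card, GaloisField.card 2 3 (by norm_num)]; norm_num
  obtain ⟨h1, h2⟩ := psl_even (S := S) hF (by norm_num) (S1011.result h hF)
  refine ⟨h1 7 (by norm_num) (by norm_num), h1 2 Nat.prime_two (by norm_num), fun hadj => ?_⟩
  obtain ⟨-, -, -, h3 | h3⟩ := (h2 2 3).1 hadj <;> norm_num at h3

theorem facts_odd (p : ℕ) (hp : p.Prime) (h7 : 5 < p)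
    (h : Nonempty (S ≃* Matrix.ProjectiveSpecialLinearGroup (Fin 2) (ZMod p))) :
    p ∈ Cfsg.degreePrimes S := by
  have : Fact p.Prime := ⟨hp⟩
  exact (psl_odd (q := p) p (by omega) (ZMod.card p) h7 h).1 p hp (dvd_mul_right p _)

theorem facts_660 (h : Nat.card S = 660) : 11 ∈ Cfsg.degreePrimes S := by
  have : Fact (Nat.Prime 11) := ⟨by norm_num⟩
  exact facts_odd S 11 (by norm_num) (by norm_num)
    (S0498.result 11 (Or.inl rfl) (by rw [h]; norm_num) (ZMod.card 11))

theorem facts_1092 (h : Nat.card S = 1092) : 13 ∈ Cfsg.degreePrimes S := by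
  have : Fact (Nat.Prime 13) := ⟨by norm_num⟩
  exact facts_odd S 13 (by norm_num) (by norm_num)
    (S0498.result 13 (Or.inr rfl) (by rw [h]; norm_num) (ZMod.card 13))

theorem facts_2448 (h : Nat.card S = 2448) : 17 ∈ Cfsg.degreePrimes S := by
  have : Fact (Nat.Prime 17) := ⟨by norm_num⟩
  exact facts_odd S 17 (by norm_num) (by norm_num) (S1020.result h (ZMod.card 17))

theorem facts_3420 (h : Nat.card S = 3420) : 19 ∈ Cfsg.degreePrimes S := by
  have : Fact (Nat.Prime 19) := ⟨by norm_num⟩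
  exact facts_odd S 19 (by norm_num) (by norm_num) (S1021.result h (ZMod.card 19))

theorem facts_4080 (h : Nat.card S = 4080) : 17 ∈ Cfsg.degreePrimes S := by
  have : Fintype (GaloisField 2 4) := Fintype.ofFinite _
  have hF : Fintype.card (GaloisField 2 4) = 16 := by
    rw [← Nat.card_eq_fintype_card, GaloisField.card 2 4 (by norm_num)]; norm_num
  exact (psl_even hF (by norm_num) (S0981.result h hF)).1 17 (by norm_num) (by norm_num)

theorem facts_5616 (hna : ¬ IsMulCommutative S) (h : Nat.card S = 5616) :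
    13 ∈ Cfsg.degreePrimes S ∧ 3 ∈ Cfsg.degreePrimes S := by
  have hns : ¬ Group.IsSolvable S := fun hs => hna
    ⟨⟨IsSimpleGroup.comm_iff_isSolvable.2 hs⟩⟩
  obtain ⟨p, q, r, hpq, hqr, hpr, hp, hq, hr⟩ := S4782.result hns
  have hmem : ∀ x ∈ Cfsg.degreePrimes S, x = 2 ∨ x = 3 ∨ x = 13 := by
    rintro x ⟨hx, e, he, hd⟩
    have h1 : x ∈ Nat.primeFactors 5616 :=
      Nat.mem_primeFactors.2 ⟨hx, h ▸ hd.trans (deg_dvd_card he), by norm_num⟩
    have h2 : Nat.primeFactors 5616 = {2, 3, 13} := by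
      rw [show (5616 : ℕ) = 2 ^ 4 * (3 ^ 3 * 13) by norm_num, Nat.primeFactors_mul (by norm_num)
        (by norm_num), Nat.primeFactors_mul (by norm_num) (by norm_num),
        Nat.primeFactors_prime_pow (by norm_num) Nat.prime_two,
        Nat.primeFactors_prime_pow (by norm_num) Nat.prime_three,
        Nat.Prime.primeFactors (by norm_num)]
      rfl
    rw [h2] at h1
    simpa using h1
  have all3 : ∀ x, (x = 2 ∨ x = 3 ∨ x = 13) → x ∈ Cfsg.degreePrimes S := by
    intro x hx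
    rcases hmem p hp with rfl | rfl | rfl <;> rcases hmem q hq with rfl | rfl | rfl <;>
      rcases hmem r hr with rfl | rfl | rfl <;> rcases hx with rfl | rfl | rfl <;>
        first | assumption | omega
  exact ⟨all3 13 (Or.inr (Or.inr rfl)), all3 3 (Or.inr (Or.inl rfl))⟩

/-- The degree given by a two-transitive action. -/
theorem deg_of_two_transitive {G : Type u} [Group G] [Finite G] (X : Type*) [MulAction G X]
    [Finite X] (h2 : MulAction.IsMultiplyPretransitive G X 2) {n : ℕ} (hn : Nat.card X = n + 1)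
    (hn1 : 1 ≤ n) : n ∈ Cfsg.charDegrees G := by
  have := MulAction.isPretransitive_of_is_two_pretransitive (G := G) (α := X)
  refine ⟨⟨_, (S0157.result X (by omega)).2 h2⟩, deg_eq _ ?_⟩
  show (Nat.card (MulAction.fixedBy X (1 : G)) : ℂ) - 1 = _
  rw [show MulAction.fixedBy X (1 : G) = Set.univ by ext a; simp, Nat.card_univ, hn]
  push_cast
  ring

theorem facts_2520 (h : Nat.card S = 2520) :
    (Cfsg.degreeGraph S).Adj 2 3 ∧ (Cfsg.degreeGraph S).Adj 2 7 := by
  classical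
  obtain ⟨f⟩ := S0984.result h
  constructor
  · have h5 := alternatingGroup.isMultiplyPretransitive (Fin 7)
    have h2 : MulAction.IsMultiplyPretransitive (alternatingGroup (Fin 7)) (Fin 7) 2 :=
      MulAction.isMultiplyPretransitive_of_le (n := Nat.card (Fin 7) - 2)
        (by rw [Nat.card_fin]; norm_num) (by simp)
    have h6 := deg_of_two_transitive (n := 6) (Fin 7) h2 (by rw [Nat.card_fin]) (by norm_num)
    exact adj_of_dvd Nat.prime_two Nat.prime_three (by norm_num) (deg_congr_le f h6) dvd_rfl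
  · obtain ⟨⟨H, ⟨e⟩⟩, htr⟩ := S2551.result (F := ZMod 2) (ZMod.card 2)
    have hne : ∀ (g : H) (v : Fin 4 → ZMod 2), v ≠ 0 →
        ((g : Matrix.GeneralLinearGroup (Fin 4) (ZMod 2)) : Matrix (Fin 4) (Fin 4) (ZMod 2)).mulVec v
          ≠ 0 := by
      intro g v hv h0
      refine hv ?_
      have := congrArg (Matrix.mulVec (((g⁻¹ : H) : Matrix.GeneralLinearGroup (Fin 4) (ZMod 2)) :
        Matrix (Fin 4) (Fin 4) (ZMod 2))) h0
      rwa [Matrix.mulVec_mulVec, Matrix.mulVec_zero, ← Units.val_mul, ← Subgroup.coe_mul,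
        inv_mul_cancel, OneMemClass.coe_one, Units.val_one, Matrix.one_mulVec] at this
    let X := {v : Fin 4 → ZMod 2 // v ≠ 0}
    let act : MulAction H X :=
      { smul := fun g v => ⟨_, hne g v.1 v.2⟩
        one_smul := fun v => Subtype.ext (by
          show Matrix.mulVec _ v.1 = v.1
          rw [OneMemClass.coe_one, Units.val_one, Matrix.one_mulVec])
        mul_smul := fun a b v => Subtype.ext (by
          show Matrix.mulVec (((a * b : H) : Matrix.GeneralLinearGroup (Fin 4) (ZMod 2)) :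
            Matrix (Fin 4) (Fin 4) (ZMod 2)) v.1 =
            Matrix.mulVec ((a : Matrix.GeneralLinearGroup (Fin 4) (ZMod 2)) :
              Matrix (Fin 4) (Fin 4) (ZMod 2)) (Matrix.mulVec
              ((b : Matrix.GeneralLinearGroup (Fin 4) (ZMod 2)) :
                Matrix (Fin 4) (Fin 4) (ZMod 2)) v.1)
          rw [Matrix.mulVec_mulVec, ← Units.val_mul, ← Subgroup.coe_mul]) }
    have h2 : MulAction.IsMultiplyPretransitive H X 2 := by
      rw [MulAction.is_two_pretransitive_iff]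
      intro a b c d hab hcd
      obtain ⟨g, hg, hg1, hg2⟩ := htr H ⟨e⟩ a.1 b.1 c.1 d.1 a.2 b.2
        (fun e' => hab (Subtype.ext e')) c.2 d.2 (fun e' => hcd (Subtype.ext e'))
      exact ⟨⟨g, hg⟩, Subtype.ext hg1, Subtype.ext hg2⟩
    have hX : Nat.card X = 14 + 1 := by
      rw [Nat.card_eq_fintype_card]
      rfl
    have h14 := deg_of_two_transitive (G := H) (n := 14) X h2 hX (by norm_num)
    exact adj_of_dvd Nat.prime_two (by norm_num) (by norm_num) (deg_congr_le (f.trans e.symm) h14)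
      dvd_rfl

end Cfsg.Agent.SmallGraph
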