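import Mathlib

/-!
# Element orders in the symmetric group of degree six
-/

set_option autoImplicit false

namespace Cfsg.Agent.SmallGraph

theorem no_order_ten : ∀ σ : Equiv.Perm (Fin 6), σ ^ 10 = 1 → σ ^ 5 = 1 ∨ σ ^ 2 = 1 := by
  decide +kernel

theorem no_order_fifteen : ∀ σ : Equiv.Perm (Fin 6), σ ^ 15 = 1 → σ ^ 5 = 1 ∨ σ ^ 3 = 1 := by
  decide +kernel

end Cfsg.Agent.SmallGraph
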