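import Cfsg.Agent.SmallGraph.Edges
import Cfsg.Agent.SmallGraph.Perm6
import Cfsg.Agent.Char.Gallagher
import Cfsg.Agent.Char.Integral
import Cfsg.Agent.SmallOrder.PrimeTest
import Cfsg.Agent.SmallOrder.Exclude1092

/-!
# Order 360 with a section of order 60
-/

set_option autoImplicit false

namespace Cfsg.Agent.SmallGraph

open Subgroup
open scoped ComplexConjugate

universe u

/-- A character of degree three is trivial on an element of order five conjugate to its square. -/
theorem apply_eq_three {G : Type u} [Group G] [Finite G] {χ : G → ℂ} (hχ : IsCharacter G χ)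
    (h1 : χ 1 = 3) {x : G} (hx : orderOf x = 5) (hconj : IsConj x (x ^ 2)) : χ x = 3 := by
  classical
  have := Fintype.ofFinite G
  have hcf := Char.isClassFunction_of_isCharacter hχ
  have h2 : χ (x ^ 2) = χ x := (Char.classFun_isConj hcf hconj).symm
  obtain ⟨g, hg⟩ := isConj_iff.1 hconj
  have h4 : χ (x ^ 4) = χ x := by
    rw [← h2]
    refine (Char.classFun_isConj hcf (isConj_iff.2 ⟨g, ?_⟩)).symm
    rw [← conj_pow, hg, ← pow_mul]
  have h3 : χ (x ^ 3) = χ x := by
    rw [← h4]
    refine (Char.classFun_isConj hcf (isConj_iff.2 ⟨g, ?_⟩)).symm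
    have h8 : x ^ 8 = x ^ 3 := by rw [← pow_mod_orderOf, hx]
    rw [← conj_pow, hg, ← pow_mul, h8]
  obtain ⟨m, hm⟩ := Char.classInner_isCharacter_eq_natCast
    (Char.isCharacter_res (zpowers x) hχ) (Char.isCharacter_one (G := zpowers x))
  have hsum : ∑ y : zpowers x, χ y = ∑ i : Fin 5, χ (x ^ (i : ℕ)) := by
    refine (Fintype.sum_equiv ((finCongr hx.symm).trans (finEquivZPowers (isOfFinOrder_of_finite x)))
      (fun i : Fin 5 => χ (x ^ (i : ℕ))) (fun y => χ y) fun i => ?_).symm
    simp [finEquivZPowers_apply]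
  simp only [Cfsg.classInner, map_one, mul_one, Nat.card_zpowers, hx] at hm
  rw [hsum, Fin.sum_univ_five] at hm
  simp only [Fin.val_zero, Fin.val_one, pow_zero, pow_one, show ((2 : Fin 5) : ℕ) = 2 from rfl,
    show ((3 : Fin 5) : ℕ) = 3 from rfl, show ((4 : Fin 5) : ℕ) = 4 from rfl, h1, h2, h3, h4] at hm
  obtain ⟨a, ha⟩ : ∃ a : ℤ, (a : ℚ) = (5 * (m : ℚ) - 3) / 4 := by
    refine Char.exists_int_of_isIntegral_rat ?_
    have : (((5 * (m : ℚ) - 3) / 4 : ℚ) : ℂ) = χ x := by
      push_cast at hm ⊢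
      linear_combination -(5 / 4 : ℂ) * hm
    rw [this]
    exact Char.IsChar.isIntegral hχ x
  have hax : χ x = (a : ℂ) := by
    have : ((a : ℚ) : ℂ) = (((5 * (m : ℚ) - 3) / 4 : ℚ) : ℂ) := by rw [ha]
    push_cast at this hm
    linear_combination (5 / 4 : ℂ) * hm - this
  have ham : 4 * a + 3 = 5 * (m : ℤ) := by
    have : ((4 * a + 3 : ℤ) : ℚ) = ((5 * (m : ℤ) : ℤ) : ℚ) := by push_cast; rw [ha]; ring
    exact_mod_cast this
  have hn := Char.IsChar.norm_le hχ x
  rw [hax, h1, Complex.norm_intCast] at hn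
  have h3' : |(a : ℝ)| ≤ 3 := by simpa using hn
  have ha3 : a ≤ 3 := by
    have := (abs_le.1 h3').2
    exact_mod_cast this
  have hm0 : (0 : ℤ) ≤ m := Int.natCast_nonneg m
  rw [hax, show a = 3 by omega]
  norm_num

variable {G : Type u} [Group G] [Finite G]

/-- A kernel of order three. -/
theorem kernel_three (D K : Subgroup G) [D.Normal] [K.Normal] [IsSimpleGroup D]
    (hD : Nat.card D = 60) (hG : Nat.card G = 360) (hK : Nat.card K = 3) (hKD : Disjoint K D)
    {x₀ : G} (hx₀ : x₀ ∈ D) (hxo : orderOf x₀ = 5) (hconj : IsConj x₀ (x₀ ^ 2))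
    (h23 : ¬ (Cfsg.degreeGraph G).Adj 2 3)
    (h60 : ∀ (S : Type u) [Group S] [Finite S] [IsSimpleGroup S], Nat.card S = 60 →
      3 ∈ Cfsg.degreePrimes S) : False := by
  classical
  have := Fintype.ofFinite G
  obtain ⟨x, rfl⟩ : ∃ x : D, (x : G) = x₀ := ⟨⟨x₀, hx₀⟩, rfl⟩
  have hx : orderOf x = 5 := (Subgroup.orderOf_coe x).symm.trans hxo
  -- a character of degree three of the quotient
  set q := QuotientGroup.mk' K with hq
  have hqi : Function.Injective (q.comp D.subtype) := by
    intro a b e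
    have h1 : (a : G)⁻¹ * b ∈ K := by
      rw [← QuotientGroup.eq]
      exact e
    have h2 : (a : G)⁻¹ * b ∈ K ⊓ D := ⟨h1, mul_mem (D.inv_mem a.2) b.2⟩
    rw [disjoint_iff.1 hKD, mem_bot, inv_mul_eq_one] at h2
    exact Subtype.ext h2
  set D' := (q.comp D.subtype).range with hD'
  have hD'n : D'.Normal := by
    rw [hD', MonoidHom.range_comp, range_subtype]
    exact Subgroup.Normal.map inferInstance _ (QuotientGroup.mk'_surjective K)
  obtain ⟨t, ht, ht3⟩ := (h60 D hD).2
  have htD' : t ∈ Cfsg.charDegrees D' := deg_congr_le (MonoidHom.ofInjective hqi).symm ht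
  obtain ⟨θ, hθ⟩ := htD'
  have : Fintype D' := Fintype.ofFinite _
  have : Fintype (G ⧸ K) := Fintype.ofFinite _
  obtain ⟨ψ, hψ⟩ := Char.exists_over D' θ
  obtain ⟨k, hk, hk2⟩ := ProjExt.exists_ratio_dvd_index ψ.2 θ.2 hψ
  have hD'c : Nat.card D' = 60 := by rw [hD', Nat.card_congr (MonoidHom.ofInjective hqi).toEquiv.symm, hD]
  have hi2 : D'.index = 2 := by
    have h1 := D'.card_mul_index
    have h2 := card_eq_card_quotient_mul_card_subgroup K
    rw [hG, hK] at h2
    rw [hD'c] at h1
    omega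
  have hψd : Cfsg.charDegree (ψ : G ⧸ K → ℂ) = k * t := by
    refine deg_eq ψ ?_
    rw [hk, Char.charDegree_spec', hθ]
    push_cast
    rfl
  have hmem : k * t ∈ Cfsg.charDegrees G := hψd ▸ deg_of_quotient K ⟨ψ, rfl⟩
  rw [hi2] at hk2
  have ht60 := deg_dvd_card ht
  have htsq := deg_sq_le ht
  rw [hD] at ht60 htsq
  have hkt : k = 1 ∧ t = 3 := by
    have hk12 := (Nat.dvd_prime Nat.prime_two).1 hk2
    have ht36 : t = 3 ∨ t = 6 := by
      have ht8 : t < 8 := by
        by_contra hle
        have := Nat.pow_le_pow_left (Nat.le_of_not_lt hle) 2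
        omega
      interval_cases t <;> simp_all
    by_contra hne
    refine h23 (adj_of_dvd Nat.prime_two Nat.prime_three (by norm_num) hmem ?_)
    rcases hk12 with rfl | rfl <;> rcases ht36 with rfl | rfl <;> simp_all
  obtain ⟨rfl, rfl⟩ := hkt
  have hψ1 : (ψ : G ⧸ K → ℂ) 1 = 3 := by
    rw [Char.charDegree_spec', hψd]; norm_num
  set χ : G → ℂ := fun g => (ψ : G ⧸ K → ℂ) (q g) with hχ
  have hχi : IsIrrCharacter G χ :=
    Char.isIrrCharacter_comp q (QuotientGroup.mk'_surjective K) ψ.2
  have h3 : χ x = 3 := apply_eq_three (Char.IsIrr.isCharacter hχi)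
    (by simp only [hχ, map_one, hψ1]) hxo hconj
  -- the restriction is irreducible of degree three
  have hres : IsIrrCharacter D' fun y : D' => (ψ : G ⧸ K → ℂ) y :=
    DegreeComponents.res_irr_of_coprime (s := 2) (a := 1) Nat.prime_two (by rw [hi2]; norm_num)
      ψ (by rw [hψd]; norm_num)
  have hresD : IsIrrCharacter D fun y : D => χ y :=
    Char.isIrrCharacter_comp (MonoidHom.ofInjective hqi).toMonoidHom
      (MonoidHom.ofInjective hqi).surjective hres
  have hne : (fun y : D => χ y) ≠ fun _ => (1 : ℂ) := fun e => by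
    have := congrFun e 1
    simp only [hχ, OneMemClass.coe_one, map_one, hψ1] at this
    norm_num at this
  have : Fintype D := Fintype.ofFinite _
  have hna : ¬ IsMulCommutative D :=
    SmallOrder.not_comm_of_card (by rw [hD]; norm_num)
  have h1 := (SmallOrder.degree_facts hna ⟨_, hresD⟩ hne).2.2 x (by
    show χ x = χ ((1 : D) : G)
    rw [h3, OneMemClass.coe_one, hχ]
    simp [hψ1])
  rw [h1, orderOf_one] at hx
  omega

/-- A kernel of order six. -/
theorem kernel_six (D K : Subgroup G) [D.Normal] [K.Normal] [IsSimpleGroup D]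
    (hD : Nat.card D = 60) (hG : Nat.card G = 360) (hK : Nat.card K = 6) (hKD : Disjoint K D)
    (h25 : (Cfsg.degreeGraph G).Adj 2 5) (h23 : ¬ (Cfsg.degreeGraph G).Adj 2 3)
    (h60 : ∀ (S : Type u) [Group S] [Finite S] [IsSimpleGroup S], Nat.card S = 60 →
      3 ∈ Cfsg.degreePrimes S) : False := by
  classical
  have := Fintype.ofFinite G
  have hi : D.index = 6 := by
    have := D.card_mul_index
    rw [hD, hG] at this
    omega
  have hKcomm : ∀ k ∈ K, ∀ d ∈ D, Commute k d := fun k hk d hd =>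
    Subgroup.commute_of_normal_of_disjoint K D inferInstance inferInstance hKD k d hk hd
  have hsupK : ∀ g : G, ∃ k ∈ K, ∃ d ∈ D, g = k * d := by
    have htop : K ⊔ D = ⊤ := by
      refine eq_top_of_le_card _ ?_
      have h1 := relIndex_mul_relIndex ⊥ D (K ⊔ D) bot_le le_sup_right
      rw [relIndex_bot_left, relIndex_bot_left, relIndex_sup_right, hD,
        ← inf_relIndex_right, disjoint_iff.1 hKD.symm, relIndex_bot_left, hK] at h1
      rw [hG]; omega
    intro g
    obtain ⟨k, hk, d, hd, e⟩ := Subgroup.mem_sup_of_normal_right.1 (show g ∈ K ⊔ D by rw [htop]; exact mem_top g)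
    exact ⟨k, hk, d, hd, e.symm⟩
  by_cases hKab : ∀ a ∈ K, ∀ b ∈ K, a * b = b * a
  · have hKc : K ≤ center G := fun a ha => mem_center_iff.2 fun g => by
      obtain ⟨k, hk, d, hd, rfl⟩ := hsupK g
      rw [mul_assoc, ← (hKcomm a ha d hd).eq, ← mul_assoc, hKab k hk a ha, mul_assoc]
    obtain ⟨e, he, he10⟩ := exists_of_adj h25
    have h1 := center_mul_sq he
    have h2 := card_le_of_le hKc
    rw [hK] at h2
    rw [hG] at h1
    have h3 := Nat.le_of_dvd (deg_pos he) he10
    have h4 := Nat.pow_le_pow_left h3 2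
    have := Nat.mul_le_mul h2 h4
    norm_num [-Nat.card_eq_fintype_card] at this
    omega
  · have hq6 : Nat.card (G ⧸ D) = 6 := by rw [← index_eq_card, hi]
    have hqc : ¬ ∀ a b : G ⧸ D, a * b = b * a := by
      intro hall
      refine hKab fun a ha b hb => ?_
      have h1 : a * b * (b * a)⁻¹ ∈ D := by
        rw [← QuotientGroup.eq_one_iff]
        show (QuotientGroup.mk' D) (a * b * (b * a)⁻¹) = 1
        rw [map_mul, map_inv, map_mul, map_mul, mul_inv_eq_one]
        exact hall _ _
      have h2 : a * b * (b * a)⁻¹ ∈ K := mul_mem (mul_mem ha hb) (inv_mem (mul_mem hb ha))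
      have h3 : a * b * (b * a)⁻¹ ∈ K ⊓ D := ⟨h2, h1⟩
      rw [disjoint_iff.1 hKD, mem_bot, mul_inv_eq_one] at h3
      exact h3
    obtain ⟨β, hβ⟩ := two_mem_of_six hq6 hqc
    obtain ⟨t, ht, ht3⟩ := (h60 D hD).2
    obtain ⟨θ, hθ⟩ := ht
    set f : D →* G ⧸ K := (QuotientGroup.mk' K).comp D.subtype
    have hf : Function.Bijective f := by
      have hfi : Function.Injective f := by
        intro a b e
        have h1 : (a : G)⁻¹ * b ∈ K := by
          rw [← QuotientGroup.eq]
          exact e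
        have h2 : (a : G)⁻¹ * b ∈ K ⊓ D := ⟨h1, mul_mem (D.inv_mem a.2) b.2⟩
        rw [disjoint_iff.1 hKD, mem_bot, inv_mul_eq_one] at h2
        exact Subtype.ext h2
      refine ⟨hfi, fun y => ?_⟩
      obtain ⟨g, rfl⟩ := QuotientGroup.mk'_surjective K y
      obtain ⟨k, hk, d, hd, rfl⟩ := hsupK g
      refine ⟨⟨d, hd⟩, ?_⟩
      show QuotientGroup.mk' K d = QuotientGroup.mk' K (k * d)
      rw [map_mul, show QuotientGroup.mk' K k = 1 from (QuotientGroup.eq_one_iff k).2 hk, one_mul]
    set e := MulEquiv.ofBijective f hf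
    set χ : G → ℂ := fun g => (θ : D → ℂ) (e.symm (QuotientGroup.mk' K g)) with hχ
    have hχi : IsIrrCharacter G χ :=
      Char.isIrrCharacter_comp (e.symm.toMonoidHom.comp (QuotientGroup.mk' K))
        (e.symm.surjective.comp (QuotientGroup.mk'_surjective K)) θ.2
    have : Fintype D := Fintype.ofFinite _
    have hχres : IsIrrCharacter D fun y : D => χ y := by
      have h1 : (fun y : D => χ y) = (θ : D → ℂ) := by
        funext y
        exact congrArg (θ : D → ℂ) (e.symm_apply_apply y)
      rw [h1]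
      exact θ.2
    have hβi : IsIrrCharacter G fun g => (β : G ⧸ D → ℂ) (QuotientGroup.mk' D g) :=
      Char.isIrrCharacter_comp (QuotientGroup.mk' D) (QuotientGroup.mk'_surjective D) β.2
    have hprod := Char.isIrr_mul_of_res_irr (N := D) hχi hχres hβi fun n hn => by
      show (β : G ⧸ D → ℂ) (QuotientGroup.mk' D n) = (β : G ⧸ D → ℂ) (QuotientGroup.mk' D 1)
      rw [map_one, show QuotientGroup.mk' D n = 1 from (QuotientGroup.eq_one_iff n).2 hn]
    have hd : Cfsg.charDegree (fun g => (β : G ⧸ D → ℂ) (QuotientGroup.mk' D g)) = 2 := by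
      refine deg_eq ⟨_, hβi⟩ ?_
      show (β : G ⧸ D → ℂ) (QuotientGroup.mk' D 1) = _
      rw [map_one, Char.charDegree_spec', hβ]
    have hdeg : Cfsg.charDegree (((fun g => (β : G ⧸ D → ℂ) (QuotientGroup.mk' D g)) * χ)) = 2 * t := by
      refine deg_eq ⟨_, hprod⟩ ?_
      show (β : G ⧸ D → ℂ) (QuotientGroup.mk' D 1) * χ 1 = _
      simp only [hχ, map_one]
      rw [Char.charDegree_spec', Char.charDegree_spec', hβ, hθ]
      push_cast
      rfl
    exact h23 (adj_of_dvd Nat.prime_two Nat.prime_three (by norm_num) ⟨⟨_, hprod⟩, hdeg⟩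
      (mul_dvd_mul_left 2 ht3))


/-- Order 360 with a normal simple subgroup of order 60. -/
theorem not_simple_normal_60 (D : Subgroup G) [D.Normal] [IsSimpleGroup D] (hD : Nat.card D = 60)
    (hG : Nat.card G = 360) (h25 : (Cfsg.degreeGraph G).Adj 2 5)
    (h23 : ¬ (Cfsg.degreeGraph G).Adj 2 3)
    (h60 : ∀ (S : Type u) [Group S] [Finite S] [IsSimpleGroup S], Nat.card S = 60 →
      3 ∈ Cfsg.degreePrimes S) : False := by
  classical
  have := Fintype.ofFinite G
  have : Fact (Nat.Prime 5) := ⟨Nat.prime_five⟩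
  have hi : D.index = 6 := by
    have := D.card_mul_index
    rw [hD, hG] at this
    omega
  -- the Sylow subgroup of order five
  obtain ⟨x, hx⟩ := exists_prime_orderOf_dvd_card' (G := D) 5 (by rw [hD]; norm_num)
  have hxo : orderOf (x : G) = 5 := (Subgroup.orderOf_coe x).trans hx
  have hS : ∀ S : Sylow 5 G, Nat.card (S : Subgroup G) = 5 :=
    card_sylow_eq (m := 72) (by rw [hG]) (by norm_num)
  obtain ⟨Q, hQ⟩ : ∃ Q : Sylow 5 G, (Q : Subgroup G) = zpowers (x : G) := by
    obtain ⟨Q, hle⟩ := (IsPGroup.of_card (n := 1) (by rw [Nat.card_zpowers, hxo, pow_one]) :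
      IsPGroup 5 (zpowers (x : G))).exists_le_sylow
    exact ⟨Q, (eq_of_le_of_card_ge hle (by rw [hS, Nat.card_zpowers, hxo])).symm⟩
  have hQD : (Q : Subgroup G) ≤ D := hQ ▸ zpowers_le.2 x.2
  set N := normalizer ((Q : Subgroup G) : Set G) with hN
  have hsup : N ⊔ D = ⊤ := Sylow.normalizer_sup_eq_top' Q hQD
  have hND : N.relIndex D = N.index := by
    have h1 : D.relIndex N = 6 := by
      rw [← relIndex_sup_right, hsup, relIndex_top_right, hi]
    rw [← inf_relIndex_right] at h1
    have h2 := relIndex_mul_relIndex ⊥ (D ⊓ N) N bot_le inf_le_right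
    rw [relIndex_bot_left, relIndex_bot_left, h1] at h2
    have h3 := relIndex_mul_relIndex ⊥ (N ⊓ D) D bot_le inf_le_right
    rw [relIndex_bot_left, relIndex_bot_left, inf_relIndex_right, hD, inf_comm] at h3
    have h4 := N.card_mul_index
    rw [← h2, hG] at h4
    have hpos : 0 < Nat.card (D ⊓ N : Subgroup G) := Nat.card_pos
    refine Nat.eq_of_mul_eq_mul_left hpos (h3.trans ?_)
    nlinarith
  have hnG : Nat.card (Sylow 5 G) = N.index := Sylow.card_eq_index_normalizer Q
  have hnotn : ¬ (D ≤ N) := by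
    intro hle
    have hn : ((Q : Subgroup G).subgroupOf D).Normal := normal_subgroupOf_of_le_normalizer hle
    have h5 : Nat.card ((Q : Subgroup G).subgroupOf D) = 5 := by
      rw [Nat.card_congr (subgroupOfEquivOfLe hQD).toEquiv, hS]
    rcases hn.eq_bot_or_eq_top with e | e <;> rw [e] at h5
    · rw [card_bot] at h5; omega
    · rw [card_top, hD] at h5; omega
  have hn6 : Nat.card (Sylow 5 G) = 6 := by
    have h1 : N.index ∣ 60 := by rw [← hND, ← hD]; exact relIndex_dvd_card N D
    have h2 := card_sylow_modEq_one 5 G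
    rw [Nat.ModEq, hnG] at h2
    have h3 : N.index ≠ 1 := fun e => hnotn (by rw [index_eq_one.1 e]; exact le_top)
    have key : ∀ d ∈ Nat.divisors 60, d % 5 = 1 % 5 → d ≠ 1 → d = 6 := by decide +kernel
    rw [hnG]
    exact key _ (Nat.mem_divisors.2 ⟨h1, by norm_num⟩) h2 h3
  have hNc : Nat.card N = 60 := by
    have := N.card_mul_index
    rw [← hnG, hn6, hG] at this
    omega
  set e6 := Finite.equivFinOfCardEq hn6
  set φ : G →* Equiv.Perm (Fin 6) :=
    e6.permCongrHom.toMonoidHom.comp (MulAction.toPermHom G (Sylow 5 G)) with hφ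
  set K := φ.ker with hKdef
  have hKN : K ≤ N := by
    intro g hg
    rw [hKdef, MonoidHom.mem_ker, hφ, MonoidHom.comp_apply, MulEquiv.coe_toMonoidHom,
      MulEquiv.map_eq_one_iff, Equiv.ext_iff] at hg
    exact Sylow.smul_eq_iff_mem_normalizer.1 (hg Q)
  have hKD : Disjoint K D := by
    rw [disjoint_iff]
    have hn : ((K ⊓ D).subgroupOf D).Normal := inferInstance
    rcases hn.eq_bot_or_eq_top with e | e
    · rwa [subgroupOf_eq_bot, disjoint_assoc, disjoint_iff, inf_idem] at e
    · exact absurd (((subgroupOf_eq_top.1 e).trans inf_le_left).trans hKN) hnotn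
  have hKcomm : ∀ k ∈ K, ∀ d ∈ D, Commute k d := fun k hk d hd =>
    Subgroup.commute_of_normal_of_disjoint K D inferInstance inferInstance hKD k d hk hd
  have hK6 : Nat.card K ∣ 6 := by
    have h1 := relIndex_dvd_index_of_normal D K
    rw [← inf_relIndex_right, disjoint_iff.1 hKD.symm, relIndex_bot_left, hi] at h1
    exact h1
  -- the centraliser of `x`
  set C := centralizer ({(x : G)} : Set G) with hC
  have hcyc : IsCyclic (Q : Subgroup G) := isCyclic_of_prime_card (hS Q)
  have hNC : ∀ c : ℕ, Nat.card C = c → c ∈ [15, 30, 60] := by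
    intro c hc
    have hker : (normalizerMonoidHom (Q : Subgroup G)).ker.index ∣ 4 := by
      rw [index_ker]
      have := card_subgroup_dvd_card (normalizerMonoidHom (Q : Subgroup G)).range
      rwa [IsCyclic.card_mulAut, hS, Nat.totient_prime Nat.prime_five] at this
    have hk1 : Nat.card (normalizerMonoidHom (Q : Subgroup G)).ker = c := by
      rw [normalizerMonoidHom_ker,
        Nat.card_congr (subgroupOfEquivOfLe (centralizer_le_normalizer _)).toEquiv, ← hc, hC]
      refine congrArg (fun X : Subgroup G => Nat.card X) ?_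
      rw [← SmallOrder.centralizer_zpowers_eq]
      exact congrArg (fun X : Subgroup G => centralizer (X : Set G)) hQ
    have h1 := (normalizerMonoidHom (Q : Subgroup G)).ker.card_mul_index
    rw [hk1, show Nat.card (normalizer ((Q : Subgroup G) : Set G)) = 60 from hNc] at h1
    have hc60 : c ∈ Nat.divisors 60 := Nat.mem_divisors.2 ⟨Dvd.intro _ h1, by norm_num⟩
    have key : ∀ c ∈ Nat.divisors 60, ∀ i ∈ Nat.divisors 4, c * i = 60 → c ∈ [15, 30, 60] := by
      decide +kernel
    exact key c hc60 _ (Nat.mem_divisors.2 ⟨hker, by norm_num⟩) h1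
  have hel : ∀ q : ℕ, q.Prime → q ≠ 5 → q ∣ Nat.card C →
      (∀ σ : Equiv.Perm (Fin 6), σ ^ (q * 5) = 1 → σ ^ 5 = 1 ∨ σ ^ q = 1) → q ∣ Nat.card K := by
    intro q hq hq5 hqC hperm
    obtain ⟨u, hu⟩ := exists_prime_orderOf_dvd_card' (G := C) q (hp := ⟨hq⟩) hqC
    have huo : orderOf (u : G) = q := (Subgroup.orderOf_coe u).trans hu
    have hcu : Commute (u : G) (x : G) := mem_centralizer_singleton_iff.1 u.2
    have hpow : φ ((u : G) * x) ^ (q * 5) = 1 := by
      rw [← map_pow, hcu.mul_pow, pow_mul, ← huo, pow_orderOf_eq_one, one_pow, one_mul, mul_comm,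
        pow_mul, ← hxo, pow_orderOf_eq_one, one_pow, map_one]
    have hxK : (x : G) ∉ K := fun h => by
      have h9 : (x : G) ∈ K ⊓ D := ⟨h, x.2⟩
      rw [disjoint_iff.1 hKD, mem_bot] at h9
      rw [h9, orderOf_one] at hxo
      omega
    rcases hperm _ hpow with h | h
    · have h5 : (u : G) ^ 5 ∈ K := by
        rw [hKdef, MonoidHom.mem_ker]
        rwa [← map_pow, hcu.mul_pow, ← hxo, pow_orderOf_eq_one, mul_one, hxo] at h
      have ho : orderOf ((u : G) ^ 5) = q := by
        rw [Nat.Coprime.orderOf_pow, huo]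
        rw [huo]; exact (Nat.coprime_primes hq Nat.prime_five).2 hq5
      exact ho ▸ Subgroup.orderOf_dvd_natCard _ h5
    · exfalso
      have hxq : (x : G) ^ q ∈ K := by
        rw [hKdef, MonoidHom.mem_ker]
        rwa [← map_pow, hcu.mul_pow, ← huo, pow_orderOf_eq_one, one_mul, huo] at h
      obtain ⟨m, hm⟩ := exists_pow_eq_self_of_coprime (x := (x : G)) (n := q)
        (by rw [hxo]; exact (Nat.coprime_primes hq Nat.prime_five).2 hq5)
      exact hxK (hm ▸ pow_mem hxq m)
  have hC3 : 3 ∣ Nat.card K := by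
    refine hel 3 Nat.prime_three (by norm_num) ?_ no_order_fifteen
    have h := hNC _ rfl
    simp only [List.mem_cons, List.not_mem_nil, or_false] at h
    omega
  obtain ⟨hK1 | hK1⟩ : Nonempty (PLift (Nat.card K = 3) ⊕ PLift (Nat.card K = 6)) := by
    have key : ∀ c ∈ Nat.divisors 6, 3 ∣ c → c = 3 ∨ c = 6 := by decide +kernel
    rcases key _ (Nat.mem_divisors.2 ⟨hK6, by norm_num⟩) hC3 with e | e
    · exact ⟨Sum.inl ⟨e⟩⟩
    · exact ⟨Sum.inr ⟨e⟩⟩
  · -- a kernel of order three
    obtain ⟨hK⟩ := hK1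
    have hc15 : Nat.card C = 15 := by
      have h := hNC _ rfl
      simp only [List.mem_cons, List.not_mem_nil, or_false] at h
      rcases h with e | e | e
      · exact e
      all_goals
        exfalso
        have := hel 2 Nat.prime_two (by norm_num) (by rw [e]; norm_num) no_order_ten
        rw [hK] at this
        norm_num at this
    have hconj : IsConj (x : G) ((x : G) ^ 2) := by
      have hxQ : (x : G) ∈ (Q : Subgroup G) := hQ ▸ mem_zpowers _
      have hsurj : (normalizerMonoidHom (Q : Subgroup G)).range = ⊤ := by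
        refine eq_top_of_card_eq _ ?_
        rw [← index_ker, IsCyclic.card_mulAut, hS, Nat.totient_prime Nat.prime_five]
        have h1 := (normalizerMonoidHom (Q : Subgroup G)).ker.card_mul_index
        rw [normalizerMonoidHom_ker,
          Nat.card_congr (subgroupOfEquivOfLe (centralizer_le_normalizer _)).toEquiv,
          show Nat.card (centralizer ((Q : Subgroup G) : Set G)) = 15 by
            rw [← hc15, hC]
            refine congrArg (fun X : Subgroup G => Nat.card X) ?_
            rw [← SmallOrder.centralizer_zpowers_eq]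
            exact congrArg (fun X : Subgroup G => centralizer (X : Set G)) hQ,
          show Nat.card (normalizer ((Q : Subgroup G) : Set G)) = 60 from hNc] at h1
        rw [normalizerMonoidHom_ker]
        omega
      have hcop : (Nat.card (Q : Subgroup G)).Coprime 2 := by rw [hS]; norm_num
      have hmul : ∀ a b : (Q : Subgroup G), powCoprime hcop (a * b) =
          powCoprime hcop a * powCoprime hcop b := fun a b =>
        (show Commute a b from
          (IsCyclic.commGroup (α := (Q : Subgroup G))).mul_comm a b).mul_pow 2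
      let f : MulAut (Q : Subgroup G) := MulEquiv.mk' (powCoprime hcop) hmul
      obtain ⟨g, hg⟩ : f ∈ (normalizerMonoidHom (Q : Subgroup G)).range := hsurj ▸ mem_top f
      exact isConj_iff.2 ⟨g, congrArg (fun e : MulAut (Q : Subgroup G) =>
        ((e ⟨x, hxQ⟩ : (Q : Subgroup G)) : G)) hg⟩
    exact kernel_three D K hD hG hK hKD x.2 hxo hconj h23 h60
  · -- a complement of order six
    obtain ⟨hK⟩ := hK1
    exact kernel_six D K hD hG hK hKD h25 h23 h60

/-- Order 360 with a section of order 60 has the wrong degree graph. -/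
theorem not_graph_of_section_60 {D : Subgroup G} [D.Normal] {M : Subgroup D} [M.Normal]
    [M.Characteristic] (hperf : commutator D = ⊤) (hs : IsSimpleGroup (D ⧸ M))
    (hT : Nat.card (D ⧸ M) = 60) (hG : Nat.card G = 360) (h25 : (Cfsg.degreeGraph G).Adj 2 5)
    (h23 : ¬ (Cfsg.degreeGraph G).Adj 2 3)
    (h60 : ∀ (S : Type u) [Group S] [Finite S] [IsSimpleGroup S], Nat.card S = 60 →
      3 ∈ Cfsg.degreePrimes S) : False := by
  have hc := card_eq_card_quotient_mul_card_subgroup M
  rw [hT] at hc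
  have hd : Nat.card D ∣ 360 := hG ▸ card_subgroup_dvd_card D
  have hm : Nat.card M ∈ Nat.divisors 6 := Nat.mem_divisors.2
    ⟨Nat.dvd_of_mul_dvd_mul_left (by norm_num : 0 < 60) (hc ▸ hd), by norm_num⟩
  have key : ∀ m ∈ Nat.divisors 6, m ∈ [1, 2, 3, 5, 6, 15] := by decide +kernel
  rcases small_radical hperf M (key _ hm) (fun h => absurd (h.trans hd) (by norm_num))
    (fun h => absurd (h.trans hd) (by norm_num)) with hM | ⟨hM, hcen⟩
  · obtain ⟨hsD, hcD⟩ := simple_of_quotient M hM hs
    exact not_simple_normal_60 D (hcD.trans hT) hG h25 h23 h60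
  · obtain ⟨e, he, he10⟩ := exists_of_adj h25
    obtain ⟨k, t, ht, hk, rfl⟩ := exists_deg_under D he
    have hi := D.card_mul_index
    rw [hc, hM, hG] at hi
    have hk3 : k ∣ 3 := hk.trans (dvd_of_eq (by omega))
    have h10 : 2 * 5 ∣ t := by
      refine Nat.Coprime.dvd_of_dvd_mul_left ?_ he10
      exact ((by norm_num : Nat.Coprime (2 * 5) 3)).of_dvd_right hk3
    have h1 := center_mul_sq ht
    rw [hc, hM] at h1
    have h4 := Nat.pow_le_pow_left (Nat.le_of_dvd (deg_pos ht) h10) 2
    have := Nat.mul_le_mul hcen h4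
    norm_num at this
    omega

end Cfsg.Agent.SmallGraph
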