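import Cfsg.Agent.SmallGraph.NormalPrime
import Cfsg.Agent.SmallGraph.Order360
import Cfsg.Agent.SmallGraph.Facts
import Cfsg.Agent.SmallOrder.Order5616.Cent

/-!
# Small simple groups by order and degree graph
-/

set_option autoImplicit false

namespace Cfsg.Agent.SmallGraph

open Subgroup

universe u v

/-- The prime test on prime powers dividing `n`. -/
def primeList : List ℕ := [2, 3, 5, 7, 11, 13, 17, 19]

theorem prime_power_check {n p q : ℕ} (hn : n ≠ 0)
    (h : ∀ d ∈ Nat.divisors n, d % p = 1 → d = 1 ∨ d = q ∨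
      ∃ s ∈ primeList, ∃ t ∈ primeList, s ≠ t ∧ s ∣ d ∧ t ∣ d) :
    ∀ s a : ℕ, s.Prime → s ^ a ∣ n → s ^ a % p = 1 → s ^ a = 1 ∨ s ^ a = q := by
  intro s a hs hd hm
  rcases h _ (Nat.mem_divisors.2 ⟨hd, hn⟩) hm with e | e | ⟨x, hx, y, hy, hne, hxd, hyd⟩
  · exact Or.inl e
  · exact Or.inr e
  · exfalso
    have hpr : ∀ z ∈ primeList, z.Prime := by
      intro z hz
      simp only [primeList, List.mem_cons, List.not_mem_nil, or_false] at hz
      rcases hz with rfl | rfl | rfl | rfl | rfl | rfl | rfl | rfl <;> norm_num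
    have h1 := (Nat.prime_dvd_prime_iff_eq (hpr x hx) hs).1 ((hpr x hx).dvd_of_dvd_pow hxd)
    have h2 := (Nat.prime_dvd_prime_iff_eq (hpr y hy) hs).1 ((hpr y hy).dvd_of_dvd_pow hyd)
    exact hne (h1.trans h2.symm)

variable {G : Type u} [Group G] [Finite G]

theorem false_of_normal_prime {p : ℕ} (hp : p.Prime) (hp2 : ¬ p * p ∣ Nat.card G)
    (hmem : p ∈ Cfsg.degreePrimes G) (h : ∃ P : Subgroup G, P.Normal ∧ Nat.card P = p) : False := by
  obtain ⟨P, hPn, hP⟩ := h
  have : Fact p.Prime := ⟨hp⟩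
  have : IsCyclic P := isCyclic_of_prime_card hP
  refine not_mem_degreePrimes P (fun a ha b hb => congrArg Subtype.val
    ((IsCyclic.commGroup (α := P)).mul_comm ⟨a, ha⟩ ⟨b, hb⟩)) (fun hd => hp2 ?_) hmem
  rw [← P.card_mul_index, hP]
  exact mul_dvd_mul_left p hd

/-- A solvable group of order `n` misses a prime of the degree set. -/
theorem not_solvable_of {n : ℕ} (p r q : ℕ) (hp : p.Prime) (hr : r.Prime) (hb : ∃ b, q = r ^ b)
    (hn : Nat.card G = n)
    (hchk : (¬ p * p ∣ n ∧ p ∣ n ∧ ¬ r * q ∣ n ∧ r ≠ p) ∧ ∀ d ∈ Nat.divisors n, d % p = 1 →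
      d = 1 ∨ d = q ∨ ∃ s ∈ primeList, ∃ t ∈ primeList, s ≠ t ∧ s ∣ d ∧ t ∣ d)
    (hmem : p ∈ Cfsg.degreePrimes G) (hmem' : 1 < q → r ∈ Cfsg.degreePrimes G) :
    ¬ Group.IsSolvable G := by
  intro hsol
  obtain ⟨⟨h1, h2, h3, h4⟩, h5⟩ := hchk
  rcases solvable_prime_or_sylow hp hr h1 h3 hb h4
    (prime_power_check (hn ▸ Nat.card_pos.ne') h5) n G hn hn.dvd (hn ▸ h2) with
    h | ⟨hq1, R, hRn, hR, hRc⟩
  · exact false_of_normal_prime hp (hn ▸ h1) hmem h
  · refine not_mem_degreePrimes R hRc (fun hd => h3 ?_) (hmem' hq1)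
    rw [← hn, ← R.card_mul_index, hR, mul_comm r q]
    exact mul_dvd_mul_left q hd

/-- Data of a section in a group of order `n` which is not simple. -/
theorem section_of_order {n : ℕ} (hn : Nat.card G = n) (hlt : n < 6000)
    (hk : ∀ T ∈ simpleOrders, ∀ T' ∈ simpleOrders, ¬ T * T' ∣ n)
    (hns : ¬ Group.IsSolvable G) (hsimple : ¬ IsSimpleGroup G) :
    ∃ (D : Subgroup G) (M : Subgroup D) (_ : M.Normal) (T : ℕ), D.Normal ∧ M.Characteristic ∧
      commutator D = ⊤ ∧ IsSimpleGroup (D ⧸ M) ∧ T ∈ simpleOrders ∧ Nat.card (D ⧸ M) = T ∧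
      T ∣ n ∧ T < n ∧ T * (Nat.card M * D.index) = n := by
  obtain ⟨D, M, hMn, T, hDn, hMc, hperf, hs, -, hT, hTc, -⟩ :=
    exists_section hns (hn ▸ hlt) (hn ▸ hk)
  have hc := card_eq_card_quotient_mul_card_subgroup M
  have h := D.card_mul_index
  rw [hc, hTc, hn, mul_assoc] at h
  refine ⟨D, M, hMn, T, hDn, hMc, hperf, hs, hT, hTc, Dvd.intro _ h, ?_, h⟩
  refine lt_of_le_of_ne (Nat.le_of_dvd (hn ▸ Nat.card_pos) (Dvd.intro _ h)) fun e => hsimple ?_
  have h1 : Nat.card M * D.index = 1 := by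
    rw [e] at h
    exact Nat.eq_of_mul_eq_mul_left (hn ▸ Nat.card_pos) (h.trans (mul_one n).symm)
  obtain ⟨hM, hD⟩ := Nat.eq_one_of_mul_eq_one_right h1, Nat.eq_one_of_mul_eq_one_left h1
  obtain ⟨hsD, -⟩ := simple_of_quotient M hM hs
  have htop : D = ⊤ := index_eq_one.1 hD
  subst htop
  have : Nontrivial G := Subgroup.topEquiv.toEquiv.nontrivial_congr.1 hsD.toNontrivial
  exact IsSimpleGroup.isSimpleGroup_of_surjective (Subgroup.topEquiv (G := G)).toMonoidHom
    Subgroup.topEquiv.surjective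

/-- What the degree graph of a small simple group says. -/
def GraphFacts (n : ℕ) (G : Type u) [Group G] : Prop :=
  (n = 60 → 5 ∈ Cfsg.degreePrimes G) ∧
  (n = 168 → 7 ∈ Cfsg.degreePrimes G ∧ 2 ∈ Cfsg.degreePrimes G) ∧
  (n = 360 → 5 ∈ Cfsg.degreePrimes G ∧ (Cfsg.degreeGraph G).Adj 2 5 ∧
    ¬ (Cfsg.degreeGraph G).Adj 2 3) ∧
  (n = 504 → 7 ∈ Cfsg.degreePrimes G ∧ 2 ∈ Cfsg.degreePrimes G ∧
    ¬ (Cfsg.degreeGraph G).Adj 2 3) ∧
  (n = 660 → 11 ∈ Cfsg.degreePrimes G) ∧
  (n = 1092 → 13 ∈ Cfsg.degreePrimes G) ∧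
  (n = 2448 → 17 ∈ Cfsg.degreePrimes G) ∧
  (n = 2520 → 7 ∈ Cfsg.degreePrimes G ∧ 2 ∈ Cfsg.degreePrimes G ∧
    (Cfsg.degreeGraph G).Adj 2 3 ∧ (Cfsg.degreeGraph G).Adj 2 7) ∧
  (n = 3420 → 19 ∈ Cfsg.degreePrimes G) ∧
  (n = 4080 → 17 ∈ Cfsg.degreePrimes G) ∧
  (n = 5616 → 13 ∈ Cfsg.degreePrimes G ∧ 3 ∈ Cfsg.degreePrimes G)

theorem graphFacts (S : Type v) [Group S] [Finite S] [IsSimpleGroup S]
    (hna : ¬ IsMulCommutative S) : GraphFacts (Nat.card S) S :=
  ⟨fun h => (facts_60 S h).2,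
    fun h => ⟨(facts_168 S h).1, (facts_168 S h).2.1⟩,
    fun h => facts_360 S h, fun h => facts_504 S h, fun h => facts_660 S h,
    fun h => facts_1092 S h, fun h => facts_2448 S h,
    fun h => ⟨(mem_of_adj (facts_2520 S h).2).2, (mem_of_adj (facts_2520 S h).2).1,
      (facts_2520 S h).1, (facts_2520 S h).2⟩,
    fun h => facts_3420 S h, fun h => facts_4080 S h, fun h => facts_5616 S hna h⟩

/-- A group with such an order and degree graph is not solvable. -/
theorem not_solvable {n : ℕ} (hn : Nat.card G = n) (hmem : n ∈ simpleOrders)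
    (hf : GraphFacts n G) : ¬ Group.IsSolvable G := by
  obtain ⟨f60, f168, f360, f504, f660, f1092, f2448, f2520, f3420, f4080, f5616⟩ := hf
  have h23 : (23 : ℕ).Prime := by norm_num
  simp only [simpleOrders, List.mem_cons, List.not_mem_nil, or_false] at hmem
  rcases hmem with e | e | e | e | e | e | e | e | e | e | e <;> subst e
  · exact not_solvable_of 5 23 1 (by norm_num) h23 ⟨0, rfl⟩ hn (by decide +kernel) (f60 rfl)
      fun h => absurd h (lt_irrefl 1)
  · exact not_solvable_of 7 2 8 (by norm_num) Nat.prime_two ⟨3, rfl⟩ hn (by decide +kernel)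
      (f168 rfl).1 fun _ => (f168 rfl).2
  · exact not_solvable_of 5 23 1 (by norm_num) h23 ⟨0, rfl⟩ hn (by decide +kernel) (f360 rfl).1
      fun h => absurd h (lt_irrefl 1)
  · exact not_solvable_of 7 2 8 (by norm_num) Nat.prime_two ⟨3, rfl⟩ hn (by decide +kernel)
      (f504 rfl).1 fun _ => (f504 rfl).2.1
  · exact not_solvable_of 11 23 1 (by norm_num) h23 ⟨0, rfl⟩ hn (by decide +kernel) (f660 rfl)
      fun h => absurd h (lt_irrefl 1)
  · exact not_solvable_of 13 23 1 (by norm_num) h23 ⟨0, rfl⟩ hn (by decide +kernel) (f1092 rfl)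
      fun h => absurd h (lt_irrefl 1)
  · exact not_solvable_of 17 23 1 (by norm_num) h23 ⟨0, rfl⟩ hn (by decide +kernel) (f2448 rfl)
      fun h => absurd h (lt_irrefl 1)
  · exact not_solvable_of 7 2 8 (by norm_num) Nat.prime_two ⟨3, rfl⟩ hn (by decide +kernel)
      (f2520 rfl).1 fun _ => (f2520 rfl).2.1
  · exact not_solvable_of 19 23 1 (by norm_num) h23 ⟨0, rfl⟩ hn (by decide +kernel) (f3420 rfl)
      fun h => absurd h (lt_irrefl 1)
  · exact not_solvable_of 17 23 1 (by norm_num) h23 ⟨0, rfl⟩ hn (by decide +kernel) (f4080 rfl)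
      fun h => absurd h (lt_irrefl 1)
  · exact not_solvable_of 13 3 27 (by norm_num) Nat.prime_three ⟨3, rfl⟩ hn (by decide +kernel)
      (f5616 rfl).1 fun _ => (f5616 rfl).2

theorem adj_168 (S : Type u) [Group S] [Finite S] [IsSimpleGroup S] (h : Nat.card S = 168) :
    (Cfsg.degreeGraph S).Adj 2 3 := (facts_168 S h).2.2

theorem not_adj_504 (S : Type u) [Group S] [Finite S] [IsSimpleGroup S] (h : Nat.card S = 504) :
    ¬ (Cfsg.degreeGraph S).Adj 2 3 := (facts_504 S h).2.2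

theorem mem_60 (S : Type u) [Group S] [Finite S] [IsSimpleGroup S] (h : Nat.card S = 60) :
    3 ∈ Cfsg.degreePrimes S := (facts_60 S h).1

theorem proper_orders : ∀ n ∈ simpleOrders, ∀ T ∈ simpleOrders, T ∣ n → T < n →
    (n, T) ∈ [(360, 60), (504, 168), (660, 60), (2520, 60), (2520, 168), (2520, 360),
      (2520, 504), (3420, 60), (4080, 60)] := by decide +kernel

/-- A group with the order and degree graph of a small simple group is simple. -/
theorem isSimple_of_facts {n : ℕ} (hn : Nat.card G = n) (hmem : n ∈ simpleOrders)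
    (hf : GraphFacts n G) : IsSimpleGroup G := by
  by_contra hsimple
  have hlt : n < 6000 := (show ∀ m ∈ simpleOrders, m < 6000 by decide +kernel) n hmem
  obtain ⟨D, M, hMn, T, hDn, hMc, hperf, hs, hT, hTc, hTd, hTlt, hprod⟩ := section_of_order hn hlt
    ((show ∀ m ∈ simpleOrders, ∀ T ∈ simpleOrders, ∀ T' ∈ simpleOrders, ¬ T * T' ∣ m by
      decide +kernel) n hmem) (not_solvable hn hmem hf) hsimple
  have hpair := proper_orders n hmem T hT hTd hTlt
  obtain ⟨f60, f168, f360, f504, f660, f1092, f2448, f2520, f3420, f4080, f5616⟩ := hf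
  have hnp : ∀ p k : ℕ, p.Prime → T * k = n → (T = 60 ∧ p ∈ [7, 11, 17, 19] ∨ T = 360 ∧ p = 7) →
      p ∣ k → ¬ p * p ∣ n → (∀ d ∈ Nat.divisors k, d % p = 1 → d = 1) →
      p ∈ Cfsg.degreePrimes G → False := by
    intro p k hp hk hTp hpk hp2 hd hpm
    have hk' : Nat.card M * D.index = k := Nat.eq_of_mul_eq_mul_left
      (Nat.pos_of_ne_zero fun e => by rw [e, zero_mul] at hk; omega) (hprod.trans hk.symm)
    refine false_of_normal_prime hp (hn ▸ hp2) hpm (section_normal_prime hp hs ?_ hk' hpk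
      (fun h => hp2 (h.trans (Dvd.intro_left _ hk))) fun d h1 h2 => hd d (Nat.mem_divisors.2
        ⟨h1, fun e => by rw [e, mul_zero] at hk; omega⟩) h2)
    rw [hTc]; exact hTp
  simp only [List.mem_cons, List.not_mem_nil, or_false, Prod.mk.injEq] at hpair
  rcases hpair with ⟨rfl, rfl⟩ | ⟨rfl, rfl⟩ | ⟨rfl, rfl⟩ | ⟨rfl, rfl⟩ | ⟨rfl, rfl⟩ | ⟨rfl, rfl⟩ |
    ⟨rfl, rfl⟩ | ⟨rfl, rfl⟩ | ⟨rfl, rfl⟩
  · exact not_graph_of_section_60 hperf hs hTc hn (f360 rfl).2.1 (f360 rfl).2.2 mem_60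
  · exact (f504 rfl).2.2 (adj_of_section_168 hperf hs hTc hn adj_168)
  · exact hnp 11 11 (by norm_num) (by norm_num) (Or.inl ⟨rfl, by norm_num⟩) dvd_rfl (by norm_num)
      (by decide +kernel) (f660 rfl)
  · exact hnp 7 42 (by norm_num) (by norm_num) (Or.inl ⟨rfl, by norm_num⟩) (by norm_num)
      (by norm_num) (by decide +kernel) (f2520 rfl).1
  · exact not_adj_of_section_168 hperf hs hTc hn (f2520 rfl).2.2.2
  · exact hnp 7 7 (by norm_num) (by norm_num) (Or.inr ⟨rfl, rfl⟩) dvd_rfl (by norm_num)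
      (by decide +kernel) (f2520 rfl).1
  · exact not_adj_of_section_504 hperf hs hTc hn not_adj_504 (f2520 rfl).2.2.1
  · exact hnp 19 57 (by norm_num) (by norm_num) (Or.inl ⟨rfl, by norm_num⟩) (by norm_num)
      (by norm_num) (by decide +kernel) (f3420 rfl)
  · exact hnp 17 68 (by norm_num) (by norm_num) (Or.inl ⟨rfl, by norm_num⟩) (by norm_num)
      (by norm_num) (by decide +kernel) (f4080 rfl)

/-- Two simple groups of the same order below 6000 are isomorphic. -/
theorem unique_of_card {S : Type v} [Group S] [Finite S] [IsSimpleGroup S]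
    [IsSimpleGroup G] (hna : ¬ IsMulCommutative S) (hna' : ¬ IsMulCommutative G)
    (hcard : Nat.card G = Nat.card S) {n : ℕ} (hn : Nat.card S = n) (hmem : n ∈ simpleOrders) :
    Nonempty (G ≃* S) := by
  have hG : Nat.card G = n := hcard.trans hn
  simp only [simpleOrders, List.mem_cons, List.not_mem_nil, or_false] at hmem
  rcases hmem with e | e | e | e | e | e | e | e | e | e | e <;> subst e
  · obtain ⟨a⟩ := S0494.result hG; obtain ⟨b⟩ := S0494.result hn
    exact ⟨a.trans b.symm⟩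
  · have : Fact (Nat.Prime 7) := ⟨by norm_num⟩
    obtain ⟨a⟩ := S0495.result hG (F := ZMod 7) (ZMod.card 7)
    obtain ⟨b⟩ := S0495.result hn (F := ZMod 7) (ZMod.card 7)
    exact ⟨a.trans b.symm⟩
  · obtain ⟨a⟩ := S0497.result hG; obtain ⟨b⟩ := S0497.result hn
    exact ⟨a.trans b.symm⟩
  · have : Fintype (GaloisField 2 3) := Fintype.ofFinite _
    have hF : Fintype.card (GaloisField 2 3) = 8 := by
      rw [← Nat.card_eq_fintype_card, GaloisField.card 2 3 (by norm_num)]; norm_num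
    obtain ⟨a⟩ := S1011.result hG hF; obtain ⟨b⟩ := S1011.result hn hF
    exact ⟨a.trans b.symm⟩
  · have : Fact (Nat.Prime 11) := ⟨by norm_num⟩
    obtain ⟨a⟩ := S0498.result 11 (Or.inl rfl) (G := G) (by rw [hG]; norm_num) (ZMod.card 11)
    obtain ⟨b⟩ := S0498.result 11 (Or.inl rfl) (G := S) (by rw [hn]; norm_num) (ZMod.card 11)
    exact ⟨a.trans b.symm⟩
  · have : Fact (Nat.Prime 13) := ⟨by norm_num⟩
    obtain ⟨a⟩ := S0498.result 13 (Or.inr rfl) (G := G) (by rw [hG]; norm_num) (ZMod.card 13)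
    obtain ⟨b⟩ := S0498.result 13 (Or.inr rfl) (G := S) (by rw [hn]; norm_num) (ZMod.card 13)
    exact ⟨a.trans b.symm⟩
  · have : Fact (Nat.Prime 17) := ⟨by norm_num⟩
    obtain ⟨a⟩ := S1020.result hG (ZMod.card 17); obtain ⟨b⟩ := S1020.result hn (ZMod.card 17)
    exact ⟨a.trans b.symm⟩
  · obtain ⟨a⟩ := S0984.result hG; obtain ⟨b⟩ := S0984.result hn
    exact ⟨a.trans b.symm⟩
  · have : Fact (Nat.Prime 19) := ⟨by norm_num⟩
    obtain ⟨a⟩ := S1021.result hG (ZMod.card 19); obtain ⟨b⟩ := S1021.result hn (ZMod.card 19)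
    exact ⟨a.trans b.symm⟩
  · have : Fintype (GaloisField 2 4) := Fintype.ofFinite _
    have hF : Fintype.card (GaloisField 2 4) = 16 := by
      rw [← Nat.card_eq_fintype_card, GaloisField.card 2 4 (by norm_num)]; norm_num
    obtain ⟨a⟩ := S0981.result hG hF; obtain ⟨b⟩ := S0981.result hn hF
    exact ⟨a.trans b.symm⟩
  · have := Fintype.ofFinite G
    have := Fintype.ofFinite S
    exact SmallOrder.Order5616.unique hna' hna hG hn

/-- The recognition by order and degree graph. -/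
theorem main {S : Type v} [Group S] [Finite S] [IsSimpleGroup S] (hS : ¬ IsMulCommutative S)
    (hlt : Nat.card S < 6000) (hcard : Nat.card G = Nat.card S)
    (hΓ : Cfsg.degreePrimes G = Cfsg.degreePrimes S ∧ Cfsg.degreeGraph G = Cfsg.degreeGraph S) :
    Nonempty (G ≃* S) := by
  have hmem : Nat.card S ∈ simpleOrders := SmallOrder.card_of_lt_6000 hS hlt
  have hf : GraphFacts (Nat.card S) G := by
    have h := graphFacts S hS
    unfold GraphFacts at h ⊢
    rw [hΓ.1, hΓ.2]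
    exact h
  have hs := isSimple_of_facts hcard hmem hf
  refine unique_of_card hS (SmallOrder.not_comm_of_card ?_) hcard rfl hmem
  rw [hcard]
  intro hp
  simp only [simpleOrders, List.mem_cons, List.not_mem_nil, or_false] at hmem
  rcases hmem with e | e | e | e | e | e | e | e | e | e | e <;> rw [e] at hp <;> norm_num at hp

end Cfsg.Agent.SmallGraph
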