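import Cfsg.Agent.Char.NormalAbelianSylow
import Cfsg.Agent.CharArith.PrimeCodegree
import Cfsg.Agent.CharArith.DegreeComponents
import Cfsg.Agent.Char.Integral
import Cfsg.Agent.Char.Linear
import Cfsg.Prelude.Def_DegreeGraph

/-!
# Irreducible degrees of subgroups and quotients
-/

set_option autoImplicit false

namespace Cfsg.Agent.SmallGraph

open Subgroup

universe u v

variable {G : Type u} [Group G] [Finite G]

theorem deg_eq (χ : IrrCharacter G) {d : ℕ} (h : (χ : G → ℂ) 1 = d) :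
    Cfsg.charDegree (χ : G → ℂ) = d := by
  rw [Char.charDegree_spec'] at h
  exact_mod_cast h

/-- A degree of a normal subgroup divides a degree of the group. -/
theorem exists_deg_over (N : Subgroup G) [N.Normal] {e : ℕ} (he : e ∈ Cfsg.charDegrees N) :
    ∃ e' ∈ Cfsg.charDegrees G, e ∣ e' := by
  have := Fintype.ofFinite G
  have := Fintype.ofFinite N
  obtain ⟨θ, rfl⟩ := he
  obtain ⟨χ, hχ⟩ := Char.exists_over N θ
  obtain ⟨k, hk, -⟩ := ProjExt.exists_ratio_dvd_index χ.2 θ.2 hχ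
  rw [Char.charDegree_spec', Char.charDegree_spec', ← Nat.cast_mul, Nat.cast_inj] at hk
  exact ⟨_, ⟨χ, rfl⟩, Dvd.intro_left _ hk.symm⟩

/-- A degree of the group is a degree of a normal subgroup times a divisor of the index. -/
theorem exists_deg_under (N : Subgroup G) [N.Normal] {e : ℕ} (he : e ∈ Cfsg.charDegrees G) :
    ∃ k, ∃ t ∈ Cfsg.charDegrees N, k ∣ N.index ∧ e = k * t := by
  obtain ⟨χ, rfl⟩ := he
  obtain ⟨ψ, k, hk, h, -⟩ := DegreeComponents.exists_ratio (K := N) χ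
  exact ⟨k, _, ⟨ψ, rfl⟩, hk, h⟩

/-- A degree of a quotient is a degree of the group. -/
theorem deg_of_quotient (N : Subgroup G) [N.Normal] {e : ℕ} (he : e ∈ Cfsg.charDegrees (G ⧸ N)) :
    e ∈ Cfsg.charDegrees G := by
  obtain ⟨θ, rfl⟩ := he
  refine ⟨⟨_, Char.isIrrCharacter_comp (QuotientGroup.mk' N) (QuotientGroup.mk'_surjective N) θ.2⟩,
    deg_eq _ ?_⟩
  show (θ : G ⧸ N → ℂ) (QuotientGroup.mk' N 1) = _
  rw [map_one, Char.charDegree_spec']

omit [Finite G] in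
theorem deg_congr_le {H : Type v} [Group H] [Finite H] (f : H ≃* G) [Finite G] {e : ℕ}
    (he : e ∈ Cfsg.charDegrees G) : e ∈ Cfsg.charDegrees H := by
  obtain ⟨θ, rfl⟩ := he
  refine ⟨⟨_, Char.isIrrCharacter_comp f.toMonoidHom f.surjective θ.2⟩, deg_eq _ ?_⟩
  show (θ : G → ℂ) (f.toMonoidHom 1) = _
  rw [map_one, Char.charDegree_spec']

theorem deg_congr {H : Type v} [Group H] [Finite H] (f : H ≃* G) :
    Cfsg.charDegrees H = Cfsg.charDegrees G :=
  Set.ext fun _ => ⟨deg_congr_le f.symm, deg_congr_le f⟩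

theorem degreePrimes_congr {H : Type v} [Group H] [Finite H] (f : H ≃* G) :
    Cfsg.degreePrimes H = Cfsg.degreePrimes G := by
  ext p
  simp only [Cfsg.degreePrimes, Set.mem_setOf_eq, deg_congr f]

theorem degreeGraph_congr {H : Type v} [Group H] [Finite H] (f : H ≃* G) :
    Cfsg.degreeGraph H = Cfsg.degreeGraph G := by
  ext p q
  show (_ ∧ _ ∧ _ ∧ _) ↔ (_ ∧ _ ∧ _ ∧ _)
  rw [deg_congr f]

/-- Two primes whose product divides a degree are adjacent. -/
theorem adj_of_dvd {p q e : ℕ} (hp : p.Prime) (hq : q.Prime) (hpq : p ≠ q)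
    (he : e ∈ Cfsg.charDegrees G) (hd : p * q ∣ e) : (Cfsg.degreeGraph G).Adj p q :=
  ⟨hpq, hp, hq, e, he, hd⟩

theorem exists_of_adj {p q : ℕ} (h : (Cfsg.degreeGraph G).Adj p q) :
    ∃ e ∈ Cfsg.charDegrees G, p * q ∣ e := h.2.2.2

theorem deg_dvd_card {e : ℕ} (he : e ∈ Cfsg.charDegrees G) : e ∣ Nat.card G := by
  obtain ⟨χ, rfl⟩ := he
  exact Char.IsIrr.degree_dvd_card χ.2 (Char.charDegree_spec' χ)

theorem deg_pos {e : ℕ} (he : e ∈ Cfsg.charDegrees G) : 0 < e :=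
  Nat.pos_of_dvd_of_pos (deg_dvd_card he) Nat.card_pos

theorem center_mul_sq {e : ℕ} (he : e ∈ Cfsg.charDegrees G) :
    Nat.card (center G) * e ^ 2 ≤ Nat.card G := by
  obtain ⟨χ, rfl⟩ := he
  exact CharArith.card_center_mul_sq_le χ.2

theorem deg_sq_le {e : ℕ} (he : e ∈ Cfsg.charDegrees G) : e ^ 2 ≤ Nat.card G :=
  le_trans (Nat.le_mul_of_pos_left _ Nat.card_pos) (center_mul_sq he)

/-- A normal commutative subgroup with index prime to `p` keeps `p` out of the degrees. -/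
theorem not_mem_degreePrimes {p : ℕ} (P : Subgroup G) [P.Normal]
    (hc : ∀ a ∈ P, ∀ b ∈ P, a * b = b * a) (hp : ¬ p ∣ P.index) :
    p ∉ Cfsg.degreePrimes G := by
  rintro ⟨-, e, he, hd⟩
  obtain ⟨k, t, ⟨θ, rfl⟩, hk, rfl⟩ := exists_deg_under P he
  have h1 : (θ : P → ℂ) 1 = 1 :=
    Char.forall_degree_one_iff.2 (fun a b => Subtype.ext (hc a a.2 b b.2)) θ
  rw [deg_eq θ (d := 1) (by rw [h1, Nat.cast_one]), mul_one] at hd
  exact hp (hd.trans hk)

/-- A nonabelian group of order six has a degree two. -/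
theorem two_mem_of_six (h : Nat.card G = 6) (hc : ¬ ∀ a b : G, a * b = b * a) :
    2 ∈ Cfsg.charDegrees G := by
  rw [← Char.forall_degree_one_iff] at hc
  push_neg at hc
  obtain ⟨χ, hχ⟩ := hc
  have he : Cfsg.charDegree (χ : G → ℂ) ∈ Cfsg.charDegrees G := ⟨χ, rfl⟩
  have h1 := deg_sq_le he
  have h2 := deg_pos he
  have h3 : Cfsg.charDegree (χ : G → ℂ) ≠ 1 := fun e => hχ (by
    rw [Char.charDegree_spec', e, Nat.cast_one])
  have h4 : Cfsg.charDegree (χ : G → ℂ) < 3 := by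
    rw [h] at h1
    by_contra hle
    have := Nat.pow_le_pow_left (Nat.le_of_not_lt hle) 2
    omega
  rwa [show Cfsg.charDegree (χ : G → ℂ) = 2 by omega] at he

end Cfsg.Agent.SmallGraph
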