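import Cfsg.Agent.SmallGraph.Section
import Cfsg.Agent.SmallGraph.Degrees

/-!
# Sections of order 168 and 504 against edges of the degree graph
-/

set_option autoImplicit false

namespace Cfsg.Agent.SmallGraph

open Subgroup

universe u

/-- A small solvable part of a perfect group: trivial, or central of order two. -/
theorem small_radical {D : Type u} [Group D] [Finite D] (hperf : commutator D = ⊤) (M : Subgroup D)
    [M.Normal] [M.Characteristic] (hm : Nat.card M ∈ [1, 2, 3, 5, 6, 15])
    (h3 : ¬ 3 ^ 3 ∣ Nat.card D) (h5 : ¬ 5 ^ 3 ∣ Nat.card D) :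
    Nat.card M = 1 ∨ (Nat.card M = 2 ∧ 2 ≤ Nat.card (center D)) := by
  have hcen : ∀ Z : Subgroup D, Z.Normal → (Nat.card Z).Prime → Z ≤ center D := by
    intro Z hZ hq
    have : Fact (Nat.card Z).Prime := ⟨hq⟩
    have : IsCyclic Z := isCyclic_of_prime_card rfl
    have hcomm : ∀ a b : MulAut Z, a * b = b * a := fun a b =>
      (IsCyclic.mulAutMulEquiv Z).injective (by rw [map_mul, map_mul]; exact mul_comm _ _)
    set f : D →* MulAut Z := MulAut.conjNormal with hf
    have hle : commutator D ≤ f.ker := by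
      rw [_root_.commutator_def, commutator_le]
      intro a _ b _
      rw [MonoidHom.mem_ker, map_commutatorElement, commutatorElement_def, hcomm (f a) (f b)]
      group
    rw [hperf] at hle
    intro z hz
    rw [mem_center_iff]
    intro g
    have h1 := MonoidHom.mem_ker.1 (hle (mem_top g))
    have h2 := congrArg (fun e : MulAut Z => ((e ⟨z, hz⟩ : Z) : D)) h1
    simp only [hf, MulAut.conjNormal_apply, MulAut.one_apply] at h2
    exact mul_inv_eq_iff_eq_mul.1 h2
  have hodd : ∀ q, q.Prime → ¬ q ^ 3 ∣ Nat.card D → ∀ m', Nat.card M = q * m' → ¬ q ∣ m' →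
      (∀ d, d ∣ m' → d % q = 1 → d = 1) → False := by
    intro q hq hq3 m' hM hqm hd
    have : Fact q.Prime := ⟨hq⟩
    obtain ⟨Q, -, hQc, hQ⟩ := exists_normal_prime hq hM hqm hd
    set Z := Q.map M.subtype with hZ
    have hZc : Nat.card Z = q := by rw [hZ, card_map_of_injective M.subtype_injective, hQ]
    have hZn : Z.Normal := inferInstance
    obtain ⟨z, hz⟩ := exists_prime_orderOf_dvd_card' (G := Z) q (by rw [hZc])
    exact no_central_prime hperf (hcen Z hZn (hZc ▸ hq) z.2) ((Subgroup.orderOf_coe z).trans hz) hq3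
  have hdiv : ∀ m q : ℕ, (∀ d ∈ Nat.divisors m, d % q = 1 → d = 1) → m ≠ 0 →
      ∀ d, d ∣ m → d % q = 1 → d = 1 := fun m q key hm d h1 h2 =>
    key d (Nat.mem_divisors.2 ⟨h1, hm⟩) h2
  simp only [List.mem_cons, List.not_mem_nil, or_false] at hm
  rcases hm with e | e | e | e | e | e
  · exact Or.inl e
  · refine Or.inr ⟨e, ?_⟩
    have := card_le_of_le (hcen M inferInstance (e ▸ Nat.prime_two))
    omega
  · exact (hodd 3 Nat.prime_three h3 1 (e.trans (by norm_num)) (by norm_num)
      (hdiv 1 3 (by decide +kernel) one_ne_zero)).elim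
  · exact (hodd 5 Nat.prime_five h5 1 (e.trans (by norm_num)) (by norm_num)
      (hdiv 1 5 (by decide +kernel) one_ne_zero)).elim
  · exact (hodd 3 Nat.prime_three h3 2 (e.trans (by norm_num)) (by norm_num)
      (hdiv 2 3 (by decide +kernel) two_ne_zero)).elim
  · exact (hodd 5 Nat.prime_five h5 3 (e.trans (by norm_num)) (by norm_num)
      (hdiv 3 5 (by decide +kernel) three_ne_zero)).elim

/-- The quotient by a trivial subgroup. -/
theorem simple_of_quotient {D : Type u} [Group D] [Finite D] (M : Subgroup D) [M.Normal]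
    (hM : Nat.card M = 1) (hs : IsSimpleGroup (D ⧸ M)) :
    IsSimpleGroup D ∧ Nat.card D = Nat.card (D ⧸ M) := by
  have hb : M = ⊥ := card_eq_one.1 hM
  obtain ⟨e⟩ : Nonempty ((D ⧸ M) ≃* D) :=
    ⟨(QuotientGroup.quotientMulEquivOfEq hb).trans QuotientGroup.quotientBot⟩
  have : Nontrivial D := e.toEquiv.nontrivial_congr.1 hs.toNontrivial
  exact ⟨IsSimpleGroup.isSimpleGroup_of_surjective e.toMonoidHom e.surjective,
    (Nat.card_congr e.toEquiv).symm⟩

/-- Order 504 with a section of order 168: the edge between two and three appears. -/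
theorem adj_of_section_168 {G : Type u} [Group G] [Finite G] {D : Subgroup G} [D.Normal]
    {M : Subgroup D} [M.Normal] [M.Characteristic] (hperf : commutator D = ⊤)
    (hs : IsSimpleGroup (D ⧸ M)) (hT : Nat.card (D ⧸ M) = 168) (hG : Nat.card G = 504)
    (h168 : ∀ (S : Type u) [Group S] [Finite S] [IsSimpleGroup S], Nat.card S = 168 →
      (Cfsg.degreeGraph S).Adj 2 3) : (Cfsg.degreeGraph G).Adj 2 3 := by
  have hc := card_eq_card_quotient_mul_card_subgroup M
  rw [hT] at hc
  have hd : Nat.card D ∣ 504 := hG ▸ card_subgroup_dvd_card D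
  have hm : Nat.card M ∈ Nat.divisors 3 := Nat.mem_divisors.2
    ⟨Nat.dvd_of_mul_dvd_mul_left (by norm_num : 0 < 168) (hc ▸ hd), by norm_num⟩
  have key : ∀ m ∈ Nat.divisors 3, m ∈ [1, 2, 3, 5, 6, 15] ∧ m ≠ 2 := by decide +kernel
  obtain ⟨k1, k2⟩ := key _ hm
  have hM := (small_radical hperf M k1 (fun h => absurd (h.trans hd) (by norm_num))
    fun h => absurd (h.trans hd) (by norm_num)).resolve_right fun h => k2 h.1
  obtain ⟨hsD, hcD⟩ := simple_of_quotient M hM hs
  obtain ⟨t, ht, ht6⟩ := exists_of_adj (h168 D (hcD.trans hT))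
  obtain ⟨e, he, hte⟩ := exists_deg_over D ht
  exact adj_of_dvd Nat.prime_two Nat.prime_three (by norm_num) he (ht6.trans hte)

/-- Order 2520 with a section of order 168: no degree is divisible by fourteen. -/
theorem not_adj_of_section_168 {G : Type u} [Group G] [Finite G] {D : Subgroup G} [D.Normal]
    {M : Subgroup D} [M.Normal] [M.Characteristic] (hperf : commutator D = ⊤)
    (hs : IsSimpleGroup (D ⧸ M)) (hT : Nat.card (D ⧸ M) = 168) (hG : Nat.card G = 2520) :
    ¬ (Cfsg.degreeGraph G).Adj 2 7 := by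
  have hc := card_eq_card_quotient_mul_card_subgroup M
  rw [hT] at hc
  have hd : Nat.card D ∣ 2520 := hG ▸ card_subgroup_dvd_card D
  have hm : Nat.card M ∈ Nat.divisors 15 := Nat.mem_divisors.2
    ⟨Nat.dvd_of_mul_dvd_mul_left (by norm_num : 0 < 168) (hc ▸ hd), by norm_num⟩
  have key : ∀ m ∈ Nat.divisors 15, m ∈ [1, 2, 3, 5, 6, 15] ∧ m ≠ 2 := by decide +kernel
  obtain ⟨k1, k2⟩ := key _ hm
  have hM := (small_radical hperf M k1 (fun h => absurd (h.trans hd) (by norm_num))
    fun h => absurd (h.trans hd) (by norm_num)).resolve_right fun h => k2 h.1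
  obtain ⟨-, hcD⟩ := simple_of_quotient M hM hs
  intro hadj
  obtain ⟨e, he, he14⟩ := exists_of_adj hadj
  obtain ⟨k, t, ht, hk, rfl⟩ := exists_deg_under D he
  have hi := D.card_mul_index
  rw [hcD, hT, hG] at hi
  have hk15 : k ∣ 15 := hk.trans (dvd_of_eq (by omega))
  have h14 : 14 ∣ t := by
    refine Nat.Coprime.dvd_of_dvd_mul_left ?_ he14
    exact ((by norm_num : Nat.Coprime 14 15)).of_dvd_right hk15
  have h1 := deg_sq_le ht
  rw [hcD, hT] at h1
  have h2 := Nat.le_of_dvd (deg_pos ht) h14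
  have := Nat.pow_le_pow_left h2 2
  omega

/-- Order 2520 with a section of order 504: no degree is divisible by six. -/
theorem not_adj_of_section_504 {G : Type u} [Group G] [Finite G] {D : Subgroup G} [D.Normal]
    {M : Subgroup D} [M.Normal] [M.Characteristic] (hperf : commutator D = ⊤)
    (hs : IsSimpleGroup (D ⧸ M)) (hT : Nat.card (D ⧸ M) = 504) (hG : Nat.card G = 2520)
    (h504 : ∀ (S : Type u) [Group S] [Finite S] [IsSimpleGroup S], Nat.card S = 504 →
      ¬ (Cfsg.degreeGraph S).Adj 2 3) : ¬ (Cfsg.degreeGraph G).Adj 2 3 := by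
  have hc := card_eq_card_quotient_mul_card_subgroup M
  rw [hT] at hc
  have hd : Nat.card D ∣ 2520 := hG ▸ card_subgroup_dvd_card D
  have hm : Nat.card M ∈ Nat.divisors 5 := Nat.mem_divisors.2
    ⟨Nat.dvd_of_mul_dvd_mul_left (by norm_num : 0 < 504) (hc ▸ hd), by norm_num⟩
  have key : ∀ m ∈ Nat.divisors 5, m ∈ [1, 2, 3, 5, 6, 15] ∧ m ≠ 2 := by decide +kernel
  obtain ⟨k1, k2⟩ := key _ hm
  have hM := (small_radical hperf M k1 (fun h => absurd (h.trans hd) (by norm_num))
    fun h => absurd (h.trans hd) (by norm_num)).resolve_right fun h => k2 h.1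
  obtain ⟨hsD, hcD⟩ := simple_of_quotient M hM hs
  intro hadj
  obtain ⟨e, he, he6⟩ := exists_of_adj hadj
  obtain ⟨k, t, ht, hk, rfl⟩ := exists_deg_under D he
  have hi := D.card_mul_index
  rw [hcD, hT, hG] at hi
  have hk5 : k ∣ 5 := hk.trans (dvd_of_eq (by omega))
  have h6 : 2 * 3 ∣ t := by
    refine Nat.Coprime.dvd_of_dvd_mul_left ?_ he6
    exact ((by norm_num : Nat.Coprime (2 * 3) 5)).of_dvd_right hk5
  exact h504 D (hcD.trans hT) (adj_of_dvd Nat.prime_two Nat.prime_three (by norm_num) ht h6)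

end Cfsg.Agent.SmallGraph
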