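import Cfsg.Agent.SmallGraph.Section

/-!
# A normal subgroup of prime order beside a simple section
-/

set_option autoImplicit false

namespace Cfsg.Agent.SmallGraph

open Subgroup

universe u

/-- A simple group of order 360 has no subgroup of order 45. -/
theorem no_subgroup_45 {D : Type u} [Group D] [Finite D] [IsSimpleGroup D]
    (h : Nat.card D = 360) (H : Subgroup D) (hH : Nat.card H = 45) : False := by
  have : Fact (Nat.Prime 5) := ⟨Nat.prime_five⟩
  obtain ⟨Q, hQn, -, hQ⟩ := exists_normal_prime (G := H) Nat.prime_five (m := 9) (by rw [hH])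
    (by norm_num) (fun d hd h1 => by
      have key : ∀ d ∈ Nat.divisors 9, d % 5 = 1 → d = 1 := by decide +kernel
      exact key d (Nat.mem_divisors.2 ⟨hd, by norm_num⟩) h1)
  set Q' := Q.map H.subtype with hQ'
  have hQ'c : Nat.card Q' = 5 := by rw [hQ', card_map_of_injective H.subtype_injective, hQ]
  obtain ⟨S, hS⟩ : ∃ S : Sylow 5 D, (S : Subgroup D) = Q' :=
    ⟨(IsPGroup.of_card (n := 1) (by rw [hQ'c, pow_one]) : IsPGroup 5 Q').toSylow (by
      have := Q'.card_mul_index
      rw [hQ'c, h] at this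
      omega), rfl⟩
  have hle : H ≤ normalizer ((S : Subgroup D) : Set D) := by
    intro x hx
    refine mem_normalizer_iff.2 fun y => ?_
    rw [hS]
    constructor
    · rintro ⟨z, hz, rfl⟩
      exact ⟨⟨x, hx⟩ * z * ⟨x, hx⟩⁻¹, hQn.conj_mem z hz _, rfl⟩
    · rintro ⟨z, hz, e⟩
      exact ⟨⟨x, hx⟩⁻¹ * z * ⟨x, hx⟩⁻¹⁻¹, hQn.conj_mem z hz _, by
        simp [show (z : D) = x * y * x⁻¹ from e, mul_assoc]⟩
  have h1 : Nat.card (Sylow 5 D) ∣ 8 := by
    have h2 := (normalizer ((S : Subgroup D) : Set D)).card_mul_index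
    obtain ⟨c, hc⟩ := hH ▸ card_dvd_of_le hle
    rw [hc, h, show (normalizer ((S : Subgroup D) : Set D)).index = Nat.card (Sylow 5 D) from
      (Sylow.card_eq_index_normalizer S).symm] at h2
    refine ⟨c, ?_⟩
    have : 45 * (Nat.card (Sylow 5 D) * c) = 45 * 8 := by rw [← mul_assoc]; linarith
    omega
  have h3 := card_sylow_modEq_one 5 D
  rw [Nat.ModEq] at h3
  have key : ∀ d ∈ Nat.divisors 8, d % 5 = 1 % 5 → d = 1 := by decide +kernel
  have h4 := key _ (Nat.mem_divisors.2 ⟨h1, by norm_num⟩) h3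
  have := (Nat.card_eq_one_iff_unique.1 h4).1
  rcases (Sylow.normal_of_subsingleton S).eq_bot_or_eq_top with e | e
  · have h5 : Nat.card (S : Subgroup D) = 5 := by rw [hS, hQ'c]
    rw [e, card_bot] at h5
    omega
  · have h5 : Nat.card (S : Subgroup D) = 5 := by rw [hS, hQ'c]
    rw [e, card_top, h] at h5
    omega

/-- An extension of a simple group of order 60 or 360 by a group of prime order. -/
theorem extension_normal_prime {p : ℕ} (hp : p.Prime) {L : Type u} [Group L] [Finite L]
    {D : Subgroup L} [D.Normal] [IsSimpleGroup D] (hi : D.index = p)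
    (hT : (Nat.card D = 60 ∧ p ∈ [7, 11, 17, 19]) ∨ (Nat.card D = 360 ∧ p = 7)) :
    ∃ P : Subgroup L, P.Normal ∧ Nat.card P = p := by
  have : Fact p.Prime := ⟨hp⟩
  have : Fact (Nat.Prime 2) := ⟨Nat.prime_two⟩
  have : Fact (Nat.Prime 3) := ⟨Nat.prime_three⟩
  have : Fact (Nat.Prime 5) := ⟨Nat.prime_five⟩
  have hL : Nat.card L = p * Nat.card D := by rw [← D.card_mul_index, hi, mul_comm]
  have hpD : ¬ p ∣ Nat.card D := by
    rcases hT with ⟨e, hm⟩ | ⟨e, rfl⟩ <;> rw [e]
    · fin_cases hm <;> norm_num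
    · norm_num
  obtain ⟨x, hx⟩ := exists_prime_orderOf_dvd_card' (G := L) p (hL ▸ dvd_mul_right _ _)
  set C := centralizer ({x} : Set L) with hC
  have hpC : p ∣ Nat.card C :=
    hx ▸ Subgroup.orderOf_dvd_natCard _ (mem_centralizer_singleton_iff.2 rfl)
  obtain ⟨S, hS⟩ : ∃ S : Sylow p L, (S : Subgroup L) = zpowers x := by
    obtain ⟨S, hle⟩ := (IsPGroup.of_card (n := 1) (by rw [Nat.card_zpowers, hx, pow_one]) :
      IsPGroup p (zpowers x)).exists_le_sylow
    exact ⟨S, (eq_of_le_of_card_ge hle (by rw [card_sylow_eq hL hpD, Nat.card_zpowers, hx])).symm⟩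
  rcases hT with ⟨e, hm⟩ | ⟨e, rfl⟩
  · refine ⟨zpowers x, ?_, by rw [Nat.card_zpowers, hx]⟩
    have h4 := sylow_part_dvd_centralizer (q := 2) (a := 2) hi hpD (by rw [e]; norm_num)
      (by rw [e]; norm_num) (fun d hd h1 => by
        have key : ∀ p ∈ [7, 11, 17, 19], ∀ d ∈ Nat.divisors 4, d % p = 1 → d = 1 := by
          decide +kernel
        exact key p hm d (Nat.mem_divisors.2 ⟨hd, by norm_num⟩) h1) hx
    have h3 := sylow_part_dvd_centralizer (q := 3) (a := 1) hi hpD (by rw [e]; norm_num)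
      (by rw [e]; norm_num) (fun d hd h1 => by
        have key : ∀ p ∈ [7, 11, 17, 19], ∀ d ∈ Nat.divisors 3, d % p = 1 → d = 1 := by
          decide +kernel
        exact key p hm d (Nat.mem_divisors.2 ⟨hd, by norm_num⟩) h1) hx
    have h5 := sylow_part_dvd_centralizer (q := 5) (a := 1) hi hpD (by rw [e]; norm_num)
      (by rw [e]; norm_num) (fun d hd h1 => by
        have key : ∀ p ∈ [7, 11, 17, 19], ∀ d ∈ Nat.divisors 5, d % p = 1 → d = 1 := by
          decide +kernel
        exact key p hm d (Nat.mem_divisors.2 ⟨hd, by norm_num⟩) h1) hx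
    have h60 : 60 ∣ Nat.card C := by
      simp only [← hC, pow_one] at h3 h4 h5
      rw [show (60 : ℕ) = 2 ^ 2 * 3 * 5 by norm_num]
      exact (by norm_num : Nat.Coprime (2 ^ 2 * 3) 5).mul_dvd_of_dvd_of_dvd
        ((by norm_num : Nat.Coprime (2 ^ 2) 3).mul_dvd_of_dvd_of_dvd h4 h3) h5
    have htop : C = ⊤ := by
      refine eq_top_of_le_card _ ?_
      rw [hL, e]
      refine Nat.le_of_dvd Nat.card_pos (Nat.Coprime.mul_dvd_of_dvd_of_dvd ?_ hpC h60)
      fin_cases hm <;> norm_num
    refine ⟨fun z hz g => ?_⟩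
    obtain ⟨i, rfl⟩ := mem_zpowers_iff.1 hz
    have hg : g ∈ C := htop ▸ mem_top g
    rw [(Commute.zpow_right (show Commute g x from mem_centralizer_singleton_iff.1 hg) i).eq,
      mul_inv_cancel_right]
    exact hz
  · have h3 := sylow_part_dvd_centralizer (q := 3) (a := 2) hi hpD (by rw [e]; norm_num)
      (by rw [e]; norm_num) (fun d hd h1 => by
        have key : ∀ d ∈ Nat.divisors 9, d % 7 = 1 → d = 1 := by decide +kernel
        exact key d (Nat.mem_divisors.2 ⟨hd, by norm_num⟩) h1) hx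
    have h5 := sylow_part_dvd_centralizer (q := 5) (a := 1) hi hpD (by rw [e]; norm_num)
      (by rw [e]; norm_num) (fun d hd h1 => by
        have key : ∀ d ∈ Nat.divisors 5, d % 7 = 1 → d = 1 := by decide +kernel
        exact key d (Nat.mem_divisors.2 ⟨hd, by norm_num⟩) h1) hx
    have h315 : 315 ∣ Nat.card C := by
      simp only [← hC, pow_one] at h3 h5
      rw [show (315 : ℕ) = 3 ^ 2 * 5 * 7 by norm_num]
      exact (by norm_num : Nat.Coprime (3 ^ 2 * 5) 7).mul_dvd_of_dvd_of_dvd
        ((by norm_num : Nat.Coprime (3 ^ 2) 5).mul_dvd_of_dvd_of_dvd h3 h5) hpC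
    set N := normalizer ((S : Subgroup L) : Set L) with hN
    have hCN : C ≤ N := by
      intro g hg
      refine mem_normalizer_iff.2 fun y => ?_
      rw [hS]
      have hc : ∀ i : ℤ, g * x ^ i * g⁻¹ = x ^ i := fun i => by
        rw [(Commute.zpow_right (show Commute g x from mem_centralizer_singleton_iff.1 hg) i).eq,
          mul_inv_cancel_right]
      constructor
      · intro hy
        obtain ⟨i, rfl⟩ := mem_zpowers_iff.1 hy
        rw [hc]; exact hy
      · intro hy
        obtain ⟨i, hi'⟩ := mem_zpowers_iff.1 hy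
        refine mem_zpowers_iff.2 ⟨i, ?_⟩
        calc x ^ i = g⁻¹ * (g * x ^ i * g⁻¹) * g := by group
          _ = y := by rw [hc, hi']; group
    have h315N : 315 ∣ Nat.card N := h315.trans (card_dvd_of_le hCN)
    have h2 := N.card_mul_index
    rw [show N.index = Nat.card (Sylow 7 L) from (Sylow.card_eq_index_normalizer S).symm, hL, e] at h2
    obtain ⟨c, hc⟩ := h315N
    rw [hc] at h2
    have hdvd : Nat.card (Sylow 7 L) ∣ 8 := ⟨c, by
      have : 315 * (c * Nat.card (Sylow 7 L)) = 315 * 8 := by rw [← mul_assoc, h2]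
      rw [mul_comm]
      omega⟩
    have h6 := card_sylow_modEq_one 7 L
    rw [Nat.ModEq] at h6
    have key : ∀ d ∈ Nat.divisors 8, d % 7 = 1 % 7 → d = 1 ∨ d = 8 := by decide +kernel
    rcases key _ (Nat.mem_divisors.2 ⟨hdvd, by norm_num⟩) h6 with h8 | h8
    · have := (Nat.card_eq_one_iff_unique.1 h8).1
      exact ⟨S, Sylow.normal_of_subsingleton S, card_sylow_eq hL hpD S⟩
    · exfalso
      rw [h8] at h2
      have hNc : Nat.card N = 315 := by omega
      set H := N.subgroupOf D with hH
      have h1 : Nat.card N = Nat.card H * D.relIndex N := by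
        have := (D.subgroupOf N).card_mul_index
        rw [← this]
        congr 1
        refine Nat.card_congr
          { toFun := fun z => ⟨⟨((z : D.subgroupOf N) : N), z.2⟩, (z : N).2⟩
            invFun := fun z => ⟨⟨((z : H) : D), z.2⟩, (z : D).2⟩
            left_inv := fun z => rfl
            right_inv := fun z => rfl }
      have hr : D.relIndex N ∣ 7 := hi ▸ relIndex_dvd_index_of_normal D N
      rcases (Nat.dvd_prime hp).1 hr with e1 | e1 <;> rw [e1, hNc] at h1
      · have := Nat.le_of_dvd (by norm_num) (e ▸ card_subgroup_dvd_card H)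
        have h315' : 315 ∣ 360 := by
          have h9 := card_subgroup_dvd_card H
          rw [e, ← mul_one (Nat.card H), ← h1] at h9
          exact h9
        norm_num at h315'
      · exact no_subgroup_45 e H (by omega)

/-- A section of order 60 or 360 beside a prime gives a normal subgroup of that prime order. -/
theorem section_normal_prime {p k : ℕ} (hp : p.Prime) {G : Type u} [Group G] [Finite G]
    {D : Subgroup G} [D.Normal] {M : Subgroup D} [M.Normal] [M.Characteristic]
    (hs : IsSimpleGroup (D ⧸ M))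
    (hT : (Nat.card (D ⧸ M) = 60 ∧ p ∈ [7, 11, 17, 19]) ∨ (Nat.card (D ⧸ M) = 360 ∧ p = 7))
    (hk : Nat.card M * D.index = k) (hpk : p ∣ k) (hp2 : ¬ p * p ∣ k)
    (hd : ∀ d, d ∣ k → d % p = 1 → d = 1) :
    ∃ P : Subgroup G, P.Normal ∧ Nat.card P = p := by
  have : Fact p.Prime := ⟨hp⟩
  set M' := M.map D.subtype with hM'
  have hMc : Nat.card M' = Nat.card M := card_map_of_injective D.subtype_injective
  have hM'D : M' ≤ D := map_subtype_le M
  by_cases hpM : p ∣ Nat.card M
  · obtain ⟨m, hm⟩ := hpM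
    have hmk : m ∣ k := ⟨p * D.index, by rw [← hk, hm]; ring⟩
    obtain ⟨Q, -, hQc, hQ⟩ := exists_normal_prime (G := M') hp (hMc.trans hm) (fun h => hp2 (by
      rw [← hk, hm]
      exact (mul_dvd_mul_left p h).mul_right _)) fun d h1 h2 => hd d (h1.trans hmk) h2
    exact ⟨Q.map M'.subtype, inferInstance, by
      rw [card_map_of_injective M'.subtype_injective, hQ]⟩
  have hMk : Nat.card M ∣ k := Dvd.intro _ hk
  refine lift_normal_prime hp M' (hMc ▸ hpM) (fun d h1 h2 => hd d ((hMc ▸ h1).trans hMk) h2) ?_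
  set D' := D.map (QuotientGroup.mk' M') with hD'
  have hD'n : D'.Normal := Subgroup.Normal.map inferInstance _ (QuotientGroup.mk'_surjective M')
  set f := (QuotientGroup.mk' M').comp D.subtype with hf
  have hfker : f.ker = M := by
    rw [hf, ← MonoidHom.comap_ker, QuotientGroup.ker_mk', hM',
      comap_map_eq_self_of_injective D.subtype_injective]
  obtain ⟨e⟩ : Nonempty ((D ⧸ M) ≃* D') :=
    ⟨(QuotientGroup.quotientMulEquivOfEq hfker.symm).trans
      ((QuotientGroup.quotientKerEquivRange f).trans (MulEquiv.subgroupCongr (by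
        rw [hf, MonoidHom.range_comp, range_subtype])))⟩
  have hT' : Nat.card D' = Nat.card (D ⧸ M) := (Nat.card_congr e.toEquiv).symm
  have : Nontrivial D' := e.toEquiv.nontrivial_congr.1 hs.toNontrivial
  have hs' : IsSimpleGroup D' := IsSimpleGroup.isSimpleGroup_of_surjective e.toMonoidHom e.surjective
  have hi' : D'.index = D.index := index_map_eq D (QuotientGroup.mk'_surjective M')
    (by rw [QuotientGroup.ker_mk']; exact hM'D)
  have hpi : p ∣ D.index := (hp.dvd_mul.1 (hk ▸ hpk)).resolve_left hpM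
  obtain ⟨i, hi⟩ := hpi
  have hik : i ∣ k := ⟨Nat.card M * p, by rw [← hk, hi]; ring⟩
  obtain ⟨P, hPn, -, hP⟩ := exists_normal_prime (G := (G ⧸ M') ⧸ D') hp (m := i)
    (by rw [← index_eq_card, hi', hi])
    (fun h => hp2 (by rw [← hk, hi]; exact (mul_dvd_mul_left p h).mul_left _))
    fun d h1 h2 => hd d (h1.trans hik) h2
  set L := P.comap (QuotientGroup.mk' D') with hL
  have hLn : L.Normal := hPn.comap _
  have hDL : D' ≤ L := fun x hx => by
    rw [hL, mem_comap, QuotientGroup.mk'_apply, (QuotientGroup.eq_one_iff x).2 hx]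
    exact one_mem _
  have hLc : Nat.card L = Nat.card D' * p := by rw [hL, Core.card_comap_mk, hP]
  have hDLi : (D'.subgroupOf L).index = p := by
    have h1 := (D'.subgroupOf L).card_mul_index
    rw [Nat.card_congr (subgroupOfEquivOfLe hDL).toEquiv, hLc] at h1
    exact Nat.eq_of_mul_eq_mul_left Nat.card_pos h1
  have hcard2 : Nat.card (D'.subgroupOf L) = Nat.card (D ⧸ M) := by
    rw [Nat.card_congr (subgroupOfEquivOfLe hDL).toEquiv, hT']
  have : Nontrivial (D'.subgroupOf L) :=
    (subgroupOfEquivOfLe hDL).toEquiv.nontrivial_congr.2 hs'.toNontrivial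
  have : IsSimpleGroup (D'.subgroupOf L) := IsSimpleGroup.isSimpleGroup_of_surjective
    (subgroupOfEquivOfLe hDL).symm.toMonoidHom (subgroupOfEquivOfLe hDL).symm.surjective
  obtain ⟨R, hRn, hR⟩ := extension_normal_prime hp hDLi (by rw [hcard2]; exact hT)
  have hRc : R.Characteristic := by
    refine characteristic_of_coprime (hR ▸ (Nat.Prime.coprime_iff_not_dvd hp).2 fun h => ?_)
    have h1 := R.card_mul_index
    rw [hR, hLc, mul_comm (Nat.card D') p] at h1
    rw [Nat.eq_of_mul_eq_mul_left hp.pos h1, hT'] at h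
    rcases hT with ⟨e1, hm⟩ | ⟨e1, rfl⟩ <;> rw [e1] at h
    · fin_cases hm <;> norm_num at h
    · norm_num at h
  exact ⟨R.map L.subtype, inferInstance, by rw [card_map_of_injective L.subtype_injective, hR]⟩

end Cfsg.Agent.SmallGraph
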