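import Cfsg.Agent.SmallGraph.Solvable
import Cfsg.Agent.SmallOrder.Below6000
import Mathlib.GroupTheory.Transfer

/-!
# Groups of order below 6000 which are not solvable
-/

set_option autoImplicit false

namespace Cfsg.Agent.SmallGraph

open Subgroup

universe u

/-- The orders of the small simple groups. -/
def simpleOrders : List ℕ := [60, 168, 360, 504, 660, 1092, 2448, 2520, 3420, 4080, 5616]

theorem solvable_of_orders : ∀ (c : ℕ) (X : Type u) [Group X] [Finite X], Nat.card X = c →
    c < 6000 → (∀ T ∈ simpleOrders, ¬ T ∣ c) → Group.IsSolvable X := by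
  intro c
  induction c using Nat.strong_induction_on with
  | _ c ih =>
    intro X _ _ hc hlt hT
    by_cases hcomm : IsMulCommutative X
    · exact Group.isSolvable_of_comm fun a b => mul_comm' a b
    have : Nontrivial X := not_subsingleton_iff_nontrivial.1 fun h =>
      hcomm ⟨⟨fun a b => Subsingleton.elim _ _⟩⟩
    obtain ⟨N, hN, hb, ht⟩ : ∃ N : Subgroup X, N.Normal ∧ N ≠ ⊥ ∧ N ≠ ⊤ := by
      by_contra! hno
      have hs : IsSimpleGroup X := ⟨fun N hN => or_iff_not_imp_left.2 fun hb => hno N hN hb⟩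
      exact hT _ (SmallOrder.card_of_lt_6000 hcomm (hc ▸ hlt)) (hc ▸ dvd_rfl)
    have hcard : Nat.card X = Nat.card (X ⧸ N) * Nat.card N :=
      card_eq_card_quotient_mul_card_subgroup N
    have h1 : Nat.card N < c := hc ▸
      lt_of_le_of_ne (card_le_card_group N) fun h => ht (eq_top_of_card_eq N h)
    have h2 : Nat.card (X ⧸ N) < c := by
      rw [← hc, hcard]
      exact lt_mul_of_one_lt_right Nat.card_pos ((one_lt_card_iff_ne_bot N).2 hb)
    have e1 : Group.IsSolvable N := ih _ h1 N rfl (h1.trans hlt) fun T hT' hd =>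
      hT T hT' (hd.trans (hc ▸ card_subgroup_dvd_card N))
    have e2 : Group.IsSolvable (X ⧸ N) := ih _ h2 (X ⧸ N) rfl (h2.trans hlt) fun T hT' hd =>
      hT T hT' (hd.trans (hc ▸ Dvd.intro _ hcard.symm))
    exact solvable_of_ker_le_range N.subtype (QuotientGroup.mk' N)
      (by rw [QuotientGroup.ker_mk', range_subtype])

/-- A perfect normal subgroup and its simple quotient. -/
theorem exists_section {G : Type u} [Group G] [Finite G] (hns : ¬ Group.IsSolvable G)
    (hlt : Nat.card G < 6000)
    (hk : ∀ T ∈ simpleOrders, ∀ T' ∈ simpleOrders, ¬ T * T' ∣ Nat.card G) :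
    ∃ (D : Subgroup G) (M : Subgroup D) (_ : M.Normal) (T : ℕ), D.Normal ∧ M.Characteristic ∧
      commutator D = ⊤ ∧ IsSimpleGroup (D ⧸ M) ∧ ¬ IsMulCommutative (D ⧸ M) ∧
      T ∈ simpleOrders ∧ Nat.card (D ⧸ M) = T ∧ Group.IsSolvable M := by
  classical
  have hstab : ∃ k, derivedSeries G (k + 1) = derivedSeries G k := by
    by_contra! hno
    have key : ∀ k, Nat.card (derivedSeries G k) + k ≤ Nat.card G := by
      intro k
      induction k with
      | zero => simpa using card_le_card_group _
      | succ k ih =>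
        have hlt' : Nat.card (derivedSeries G (k + 1)) < Nat.card (derivedSeries G k) :=
          lt_of_le_of_ne (card_le_of_le (derivedSeries_antitone G (Nat.le_succ k))) fun e =>
            hno k (eq_of_le_of_card_ge (derivedSeries_antitone G (Nat.le_succ k)) e.ge)
        omega
    have h1 := key (Nat.card G)
    have h2 := Nat.card_pos (α := derivedSeries G (Nat.card G))
    omega
  obtain ⟨k, hD⟩ := hstab
  set D := derivedSeries G k with hDdef
  have hDn : D.Normal := derivedSeries_normal G k
  have hperf : commutator D = ⊤ := by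
    refine map_injective D.subtype_injective ?_
    rw [_root_.commutator_def, map_commutator, ← MonoidHom.range_eq_map, range_subtype,
      ← derivedSeries_succ, hD]
  have hDb : D ≠ ⊥ := fun e => hns ((Group.isSolvable_def G).2 ⟨k, e⟩)
  have hDnt : Nontrivial D := (nontrivial_iff_ne_bot D).2 hDb
  obtain ⟨M, ⟨hMn, hMt⟩, hmax⟩ := exists_maximal_of_wellFoundedGT
    (fun M : Subgroup D => M.Normal ∧ M ≠ ⊤) ⟨⊥, inferInstance, bot_ne_top⟩
  have hQnt : Nontrivial (D ⧸ M) := QuotientGroup.nontrivial_iff.2 hMt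
  have hsimple : IsSimpleGroup (D ⧸ M) := ⟨fun N hN => by
    have hle : M ≤ N.comap (QuotientGroup.mk' M) := fun x hx => by
      rw [mem_comap, QuotientGroup.mk'_apply, (QuotientGroup.eq_one_iff x).2 hx]
      exact one_mem _
    by_cases ht : N.comap (QuotientGroup.mk' M) = ⊤
    · refine Or.inr ?_
      rw [← map_comap_eq_self_of_surjective (QuotientGroup.mk'_surjective M) N, ht,
        map_top_of_surjective _ (QuotientGroup.mk'_surjective M)]
    · refine Or.inl ?_
      have e := le_antisymm (hmax ⟨hN.comap _, ht⟩ hle) hle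
      rw [← map_comap_eq_self_of_surjective (QuotientGroup.mk'_surjective M) N, e,
        Subgroup.map_eq_bot_iff, QuotientGroup.ker_mk']⟩
  have hna : ¬ IsMulCommutative (D ⧸ M) := fun hc => by
    have h1 : commutator (D ⧸ M) = ⊥ := by
      rw [_root_.commutator_def, commutator_eq_bot_iff_le_centralizer]
      intro a _
      exact mem_centralizer_iff.2 fun b _ => mul_comm' b a
    have h2 := congrArg (Subgroup.map (QuotientGroup.mk' M)) hperf
    rw [_root_.commutator_def, map_commutator,
      map_top_of_surjective _ (QuotientGroup.mk'_surjective M), ← _root_.commutator_def, h1] at h2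
    exact bot_ne_top h2
  have hcardD : Nat.card D = Nat.card (D ⧸ M) * Nat.card M :=
    card_eq_card_quotient_mul_card_subgroup M
  have hTlt : Nat.card (D ⧸ M) < 6000 := lt_of_le_of_lt
    (Nat.le_of_dvd Nat.card_pos (Dvd.intro _ hcardD.symm)) (lt_of_le_of_lt (card_le_card_group D) hlt)
  have hT : Nat.card (D ⧸ M) ∈ simpleOrders := SmallOrder.card_of_lt_6000 hna hTlt
  have hsol : Group.IsSolvable M := by
    refine solvable_of_orders _ M rfl ?_ fun T hT' hd => hk _ hT T hT' ?_
    · exact lt_of_le_of_lt ((card_le_card_group M).trans (card_le_card_group D)) hlt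
    · exact ((mul_dvd_mul_left _ hd).trans hcardD.symm.dvd).trans (card_subgroup_dvd_card D)
  have hchar : M.Characteristic := by
    refine characteristic_iff_map_le.2 fun ψ => ?_
    set M1 := M.map ψ.toMonoidHom with hM1
    have hM1n : M1.Normal := hMn.map _ ψ.surjective
    by_contra hle
    have htop : M ⊔ M1 = ⊤ := by
      by_contra ht
      exact hle (le_sup_right.trans (hmax ⟨inferInstance, ht⟩ le_sup_left))
    have h1 : Function.Surjective ((QuotientGroup.mk' M).comp M1.subtype) := by
      rw [← MonoidHom.range_eq_top, MonoidHom.range_comp, range_subtype]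
      have := congrArg (Subgroup.map (QuotientGroup.mk' M)) htop
      rwa [Subgroup.map_sup, (Subgroup.map_eq_bot_iff _).2 (QuotientGroup.ker_mk' M).ge, bot_sup_eq,
        map_top_of_surjective _ (QuotientGroup.mk'_surjective M)] at this
    have h2 : Group.IsSolvable M1 :=
      solvable_of_surjective (f := (M.equivMapOfInjective ψ.toMonoidHom ψ.injective).toMonoidHom)
        (M.equivMapOfInjective ψ.toMonoidHom ψ.injective).surjective
    have h3 : Group.IsSolvable (D ⧸ M) := solvable_of_surjective h1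
    exact hna (⟨⟨IsSimpleGroup.comm_iff_isSolvable.2 h3⟩⟩)
  exact ⟨D, M, hMn, _, hDn, hchar, hperf, hsimple, hna, hT, rfl, hsol⟩

/-- An element of prime order normalising a group without divisors congruent to one commutes
with it. -/
theorem commute_of_prime {p : ℕ} (hp : p.Prime) {G : Type u} [Group G] [Finite G] (N : Subgroup G)
    [N.Normal] (hpN : ¬ p ∣ Nat.card N) (hN : ∀ d, d ∣ Nat.card N → d % p = 1 → d = 1) {x : G}
    (hx : orderOf x = p) : ∀ y ∈ N, Commute x y := by
  intro y hy
  set H := zpowers x ⊔ N with hH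
  have hxH : x ∈ H := (le_sup_left : zpowers x ≤ H) (mem_zpowers x)
  have hyH : y ∈ H := (le_sup_right : N ≤ H) hy
  have hdvd : Nat.card H ∣ p * Nat.card N := by
    have h2 : Nat.card H = Nat.card N * N.relIndex H := by
      rw [← relIndex_bot_left, ← relIndex_bot_left,
        relIndex_mul_relIndex _ _ _ bot_le le_sup_right]
    rw [h2, hH, relIndex_sup_right, mul_comm]
    exact mul_dvd_mul_right ((relIndex_dvd_card N _).trans (by rw [Nat.card_zpowers, hx])) _
  obtain ⟨m, hm⟩ : p ∣ Nat.card H := hx ▸ Subgroup.orderOf_dvd_natCard _ hxH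
  have hmN : m ∣ Nat.card N := Nat.dvd_of_mul_dvd_mul_left hp.pos (hm ▸ hdvd)
  have hpm : ¬ p ∣ m := fun h => hpN (h.trans hmN)
  have : Fact p.Prime := ⟨hp⟩
  obtain ⟨Q, hQn, -, hQ⟩ := exists_normal_prime hp hm hpm fun d h1 h2 => hN d (h1.trans hmN) h2
  have hxQ : (⟨x, hxH⟩ : H) ∈ Q := by
    rw [← QuotientGroup.eq_one_iff, ← orderOf_eq_one_iff]
    have h1 : orderOf ((⟨x, hxH⟩ : H) : H ⧸ Q) ∣ p := by
      refine (orderOf_map_dvd (QuotientGroup.mk' Q) _).trans ?_
      rw [Subgroup.orderOf_mk, hx]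
    refine ((Nat.dvd_prime hp).1 h1).resolve_right fun e => hpm ?_
    have h2 : p ∣ Q.index := e ▸ orderOf_dvd_natCard _
    have h3 : Q.index = m := Nat.eq_of_mul_eq_mul_left hp.pos (by
      rw [← hm, ← Q.card_mul_index, hQ])
    exact h3 ▸ h2
  have hdis : Disjoint Q (N.subgroupOf H) := by
    refine disjoint_iff.2 (inf_eq_bot_of_coprime ?_)
    rw [hQ, Nat.card_congr (subgroupOfEquivOfLe (le_sup_right : N ≤ H)).toEquiv]
    exact (Nat.Prime.coprime_iff_not_dvd hp).2 hpN
  exact congrArg Subtype.val (Subgroup.commute_of_normal_of_disjoint Q (N.subgroupOf H) hQn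
    inferInstance hdis ⟨x, hxH⟩ ⟨y, hyH⟩ hxQ (mem_subgroupOf.2 hy)).eq

/-- In an extension of `D` by a group of order `p`, a Sylow subgroup of `D` without divisors
congruent to one commutes with a conjugate of every element of order `p`. -/
theorem sylow_part_dvd_centralizer {p q a : ℕ} [Fact p.Prime] [Fact q.Prime] {L : Type u} [Group L]
    [Finite L] {D : Subgroup L} [D.Normal] (hi : D.index = p) (hpD : ¬ p ∣ Nat.card D)
    (hqa : q ^ a ∣ Nat.card D) (hqa' : ¬ q ^ (a + 1) ∣ Nat.card D)
    (hd : ∀ d, d ∣ q ^ a → d % p = 1 → d = 1) {x : L} (hx : orderOf x = p) :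
    q ^ a ∣ Nat.card (centralizer ({x} : Set L)) := by
  have hp : p.Prime := Fact.out
  obtain ⟨Q⟩ : Nonempty (Sylow q D) := Sylow.nonempty
  have hQ : Nat.card (Q : Subgroup D) = q ^ a := by
    obtain ⟨e, he⟩ := IsPGroup.iff_card.1 Q.2
    have h1 : q ^ e ∣ Nat.card D := he ▸ card_subgroup_dvd_card _
    obtain ⟨R, hR⟩ := Sylow.exists_subgroup_card_pow_prime q hqa
    obtain ⟨S, hS⟩ := (IsPGroup.of_card hR : IsPGroup q R).exists_le_sylow
    have h2 := card_le_of_le hS
    rw [Sylow.card_eq_multiplicity, ← Sylow.card_eq_multiplicity Q, he, hR] at h2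
    have h3 : e ≤ a := Nat.le_of_lt_succ (lt_of_not_ge fun hle =>
      hqa' ((pow_dvd_pow q hle).trans h1))
    have h4 : a ≤ e := (Nat.pow_le_pow_iff_right (Fact.out : q.Prime).one_lt).1 h2
    rw [he, le_antisymm h3 h4]
  set Q' := (Q : Subgroup D).map D.subtype with hQ'
  have hQ'c : Nat.card Q' = q ^ a := by rw [hQ', card_map_of_injective D.subtype_injective, hQ]
  set N := normalizer (Q' : Set L) with hN
  have hsup := Sylow.normalizer_sup_eq_top Q
  obtain ⟨y, hy⟩ : ∃ y : N, orderOf y = p := by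
    refine exists_prime_orderOf_dvd_card' p ?_
    by_contra hno
    have hle : N ≤ D := fun z hz => by
      rw [← QuotientGroup.eq_one_iff, ← orderOf_eq_one_iff]
      have h1 : orderOf (z : L ⧸ D) ∣ p := hi ▸ orderOf_dvd_natCard _
      refine ((Nat.dvd_prime hp).1 h1).resolve_right fun e => hno ?_
      rw [← e]
      exact (orderOf_map_dvd (QuotientGroup.mk' D) z).trans (Subgroup.orderOf_dvd_natCard _ hz)
    have h1 : D = ⊤ := by rw [← hsup, sup_of_le_right hle]
    rw [h1, index_top] at hi
    exact hp.ne_one hi.symm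
  have hyo : orderOf (y : L) = p := (Subgroup.orderOf_coe y).trans hy
  have hnorm : (Q'.subgroupOf N).Normal := normal_subgroupOf_of_le_normalizer le_rfl
  have hQN : Q' ≤ N := le_normalizer
  have hc1 : Nat.card (Q'.subgroupOf N) = q ^ a := by
    rw [Nat.card_congr (subgroupOfEquivOfLe hQN).toEquiv, hQ'c]
  have hpq : ¬ p ∣ q ^ a := fun h => hpD (h.trans hqa)
  have hcomm := commute_of_prime hp (Q'.subgroupOf N) (hc1 ▸ hpq) (hc1 ▸ hd) hy
  have hle : Q' ≤ centralizer ({(y : L)} : Set L) := fun z hz => mem_centralizer_singleton_iff.2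
    (congrArg Subtype.val (hcomm ⟨z, hQN hz⟩ (mem_subgroupOf.2 hz)).eq).symm
  -- all subgroups of order `p` are conjugate
  have hL : Nat.card L = p * Nat.card D := by rw [← D.card_mul_index, hi, mul_comm]
  have hS : ∀ S : Sylow p L, Nat.card (S : Subgroup L) = p := card_sylow_eq hL hpD
  obtain ⟨S, hS'⟩ : ∃ S : Sylow p L, (S : Subgroup L) = zpowers x := by
    obtain ⟨S, hle⟩ := (IsPGroup.of_card (n := 1) (by rw [Nat.card_zpowers, hx, pow_one]) :
      IsPGroup p (zpowers x)).exists_le_sylow
    exact ⟨S, (eq_of_le_of_card_ge hle (by rw [hS, Nat.card_zpowers, hx])).symm⟩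
  obtain ⟨R, hR'⟩ : ∃ R : Sylow p L, (R : Subgroup L) = zpowers (y : L) := by
    obtain ⟨R, hle⟩ := (IsPGroup.of_card (n := 1) (by rw [Nat.card_zpowers, hyo, pow_one]) :
      IsPGroup p (zpowers (y : L))).exists_le_sylow
    exact ⟨R, (eq_of_le_of_card_ge hle (by rw [hS, Nat.card_zpowers, hyo])).symm⟩
  obtain ⟨g, hg⟩ := MulAction.exists_smul_eq L R S
  have hmem : g * (y : L) * g⁻¹ ∈ zpowers x := by
    rw [← hS', ← hg, Sylow.coe_subgroup_smul]
    exact ⟨y, hR' ▸ mem_zpowers _, rfl⟩
  have hzx : zpowers (g * (y : L) * g⁻¹) = zpowers x := eq_of_le_of_card_ge (zpowers_le.2 hmem) (by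
    rw [Nat.card_zpowers, Nat.card_zpowers, hx,
      show g * (y : L) * g⁻¹ = MulAut.conj g y from rfl, MulEquiv.orderOf_eq, hyo])
  have hcx : centralizer ({g * (y : L) * g⁻¹} : Set L) ≤ centralizer ({x} : Set L) := by
    intro z hz
    rw [mem_centralizer_singleton_iff] at hz ⊢
    obtain ⟨i, hi⟩ := mem_zpowers_iff.1 (hzx ▸ mem_zpowers x : x ∈ zpowers (g * (y : L) * g⁻¹))
    rw [← hi]
    exact (Commute.zpow_right (show Commute z (g * (y : L) * g⁻¹) from hz) i).eq
  refine (hQ'c ▸ card_dvd_of_le hle).trans ?_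
  refine dvd_trans ?_ (card_dvd_of_le hcx)
  rw [Nat.card_congr (Equiv.subtypeEquiv (MulAut.conj g).toEquiv (q := fun z =>
    z ∈ centralizer ({g * (y : L) * g⁻¹} : Set L)) fun z => ?_)]
  rw [MulEquiv.toEquiv_eq_coe, EquivLike.coe_coe, mem_centralizer_singleton_iff,
    mem_centralizer_singleton_iff, MulAut.conj_apply]
  constructor
  · intro e
    calc g * z * g⁻¹ * (g * y * g⁻¹) = g * (z * y) * g⁻¹ := by group
      _ = _ := by rw [e]; group
  · intro e
    calc z * (y : L) = g⁻¹ * (g * z * g⁻¹ * (g * y * g⁻¹)) * g := by group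
      _ = _ := by rw [e]; group

/-- A perfect group has no central subgroup of prime order in an abelian Sylow subgroup. -/
theorem no_central_prime {q : ℕ} [hq : Fact q.Prime] {D : Type u} [Group D] [Finite D]
    (hperf : commutator D = ⊤) {z : D} (hz : z ∈ center D) (hzo : orderOf z = q)
    (h3 : ¬ q ^ 3 ∣ Nat.card D) : False := by
  obtain ⟨P, hP⟩ := (IsPGroup.of_card (n := 1) (by rw [Nat.card_zpowers, hzo, pow_one]) :
    IsPGroup q (zpowers z)).exists_le_sylow
  have hPc : ∀ a b : (P : Subgroup D), a * b = b * a := by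
    obtain ⟨e, he⟩ := IsPGroup.iff_card.1 P.2
    have he2 : e ≤ 2 := Nat.le_of_lt_succ (lt_of_not_ge fun hle =>
      h3 ((pow_dvd_pow q hle).trans (he ▸ card_subgroup_dvd_card _)))
    rcases (show e = 0 ∨ e = 1 ∨ e = 2 by omega) with rfl | rfl | rfl
    · intro a b
      rw [pow_zero] at he
      have := (Nat.card_eq_one_iff_unique.1 he).1
      exact Subsingleton.elim _ _
    · have : IsCyclic (P : Subgroup D) := isCyclic_of_prime_card (by rw [he, pow_one])
      let := IsCyclic.commGroup (α := (P : Subgroup D))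
      exact fun a b => mul_comm a b
    · have := IsPGroup.isMulCommutative_of_card_eq_prime_sq he
      exact fun a b => mul_comm' a b
  set τ := MonoidHom.transfer (Abelianization.of (G := (P : Subgroup D))) with hτ
  have h1 : τ z = 1 := by
    have hle : commutator D ≤ τ.ker := Abelianization.commutator_subset_ker τ
    exact MonoidHom.mem_ker.1 (hle (hperf ▸ mem_top z))
  rw [hτ, MonoidHom.transfer_eq_pow _ z fun k g₀ _ => by
    rw [mul_assoc, ← mem_center_iff.1 (pow_mem hz k) g₀, ← mul_assoc, inv_mul_cancel, one_mul]] at h1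
  have hbot : commutator (P : Subgroup D) = ⊥ := by
    rw [_root_.commutator_def, commutator_eq_bot_iff_le_centralizer]
    intro a _
    exact mem_centralizer_iff.2 fun b _ => hPc b a
  rw [← MonoidHom.mem_ker, Abelianization.ker_of, hbot, mem_bot] at h1
  have h2 : z ^ (P : Subgroup D).index = 1 := congrArg Subtype.val h1
  exact P.not_dvd_index (hzo.symm.dvd.trans (orderOf_dvd_of_pow_eq_one h2))

end Cfsg.Agent.SmallGraph
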