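import Cfsg.Agent.AltPPair.SolvShift
import Cfsg.Agent.Core.Hall

/-!
# Normal subgroups of prime order in solvable groups
-/

set_option autoImplicit false

namespace Cfsg.Agent.SmallGraph

open Subgroup

universe u

theorem card_sylow_eq {p m : ℕ} [Fact p.Prime] {G : Type u} [Group G] [Finite G]
    (hG : Nat.card G = p * m) (hm : ¬ p ∣ m) (P : Sylow p G) : Nat.card (P : Subgroup G) = p := by
  have hm0 : m ≠ 0 := fun e => by rw [e, mul_zero] at hG; exact Nat.card_pos.ne' hG
  rw [Sylow.card_eq_multiplicity, hG, Nat.factorization_mul (Fact.out : p.Prime).ne_zero hm0,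
    Finsupp.add_apply, Nat.Prime.factorization_self (Fact.out : p.Prime),
    Nat.factorization_eq_zero_of_not_dvd hm]
  norm_num

/-- A normal subgroup whose order is prime to its index is characteristic. -/
theorem characteristic_of_coprime {G : Type u} [Group G] [Finite G] {H : Subgroup G} [H.Normal]
    (h : (Nat.card H).Coprime H.index) : H.Characteristic := by
  refine characteristic_iff_map_le.2 fun φ => ?_
  rintro _ ⟨x, hx, rfl⟩
  have h1 : (φ x : G ⧸ H) ^ H.index = 1 := pow_card_eq_one'
  have h2 : (φ x : G ⧸ H) ^ Nat.card H = 1 := by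
    rw [← QuotientGroup.mk_pow, ← map_pow,
      orderOf_dvd_iff_pow_eq_one.1 (Subgroup.orderOf_dvd_natCard _ hx), map_one, QuotientGroup.mk_one]
  have h3 := Nat.dvd_gcd (orderOf_dvd_of_pow_eq_one h2) (orderOf_dvd_of_pow_eq_one h1)
  rw [h.gcd_eq_one, Nat.dvd_one, orderOf_eq_one_iff, QuotientGroup.eq_one_iff] at h3
  exact h3

/-- A group of order `p * m` where no divisor of `m` but one is congruent to one modulo `p`. -/
theorem exists_normal_prime {p m : ℕ} (hp : p.Prime) {G : Type u} [Group G] [Finite G]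
    (hG : Nat.card G = p * m) (hpm : ¬ p ∣ m) (hm : ∀ d, d ∣ m → d % p = 1 → d = 1) :
    ∃ P : Subgroup G, P.Normal ∧ P.Characteristic ∧ Nat.card P = p := by
  have : Fact p.Prime := ⟨hp⟩
  obtain ⟨P⟩ : Nonempty (Sylow p G) := Sylow.nonempty
  have hP := card_sylow_eq hG hpm P
  have h1 : (P : Subgroup G).index = m := by
    have := (P : Subgroup G).card_mul_index
    rw [hP, hG] at this
    exact Nat.eq_of_mul_eq_mul_left hp.pos this
  have h2 : Nat.card (Sylow p G) = 1 := by
    refine hm _ (h1 ▸ P.card_dvd_index) ?_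
    have := card_sylow_modEq_one p G
    rw [Nat.ModEq, Nat.one_mod_eq_one.2 hp.ne_one] at this
    exact this
  have := (Nat.card_eq_one_iff_unique.1 h2).1
  have hn : (P : Subgroup G).Normal := Sylow.normal_of_subsingleton P
  exact ⟨P, hn, P.characteristic_of_normal hn, hP⟩

/-- Lifting a normal subgroup of prime order from a quotient. -/
theorem lift_normal_prime {p : ℕ} (hp : p.Prime) {G : Type u} [Group G] [Finite G]
    (N : Subgroup G) [N.Normal] (hpN : ¬ p ∣ Nat.card N)
    (hN : ∀ d, d ∣ Nat.card N → d % p = 1 → d = 1)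
    (h : ∃ P : Subgroup (G ⧸ N), P.Normal ∧ Nat.card P = p) :
    ∃ P : Subgroup G, P.Normal ∧ Nat.card P = p := by
  obtain ⟨P, hPn, hP⟩ := h
  set M := P.comap (QuotientGroup.mk' N) with hM
  have hMn : M.Normal := hPn.comap _
  obtain ⟨Q, -, hQc, hQ⟩ := exists_normal_prime (G := M) hp
    (by rw [hM, Core.card_comap_mk, hP, mul_comm]) hpN hN
  exact ⟨Q.map M.subtype, inferInstance, by
    rw [← hQ]; exact card_map_of_injective M.subtype_injective⟩

/-- A solvable group whose order has, apart from `r ^ b`, no prime power divisor congruent to one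
modulo the prime `p` has a normal subgroup of order `p`, or a normal abelian Sylow `r`-subgroup. -/
theorem solvable_prime_or_sylow {p r q n : ℕ} (hp : p.Prime) (hr : r.Prime)
    (hpn : ¬ p * p ∣ n) (hrn : ¬ r * q ∣ n) (hq : ∃ b, q = r ^ b) (hrp : r ≠ p)
    (hd : ∀ s a : ℕ, s.Prime → s ^ a ∣ n → s ^ a % p = 1 → s ^ a = 1 ∨ s ^ a = q) :
    ∀ (c : ℕ) (G : Type u) [Group G] [Finite G] [Group.IsSolvable G], Nat.card G = c →
      Nat.card G ∣ n → p ∣ Nat.card G →
      (∃ P : Subgroup G, P.Normal ∧ Nat.card P = p) ∨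
      (1 < q ∧ ∃ R : Subgroup G, R.Normal ∧ Nat.card R = q ∧ ∀ a ∈ R, ∀ b ∈ R, a * b = b * a) := by
  have : Fact p.Prime := ⟨hp⟩
  have : Fact r.Prime := ⟨hr⟩
  obtain ⟨b, hb⟩ := hq
  intro c
  induction c using Nat.strong_induction_on with
  | _ c ih =>
    intro G _ _ hsolG hc hcn hpc
    have : Nontrivial G := Finite.one_lt_card_iff_nontrivial.1
      (lt_of_lt_of_le hp.one_lt (Nat.le_of_dvd Nat.card_pos hpc))
    obtain ⟨s, N, hs, hNn, hNb, hNc, hNe⟩ := AltPPair.exists_elementary_normal G hsolG
    have : Fact s.Prime := ⟨hs⟩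
    have hNp : IsPGroup s N := fun x => ⟨1, Subtype.ext (by simpa using hNe x x.2)⟩
    obtain ⟨a, ha⟩ := IsPGroup.iff_card.1 hNp
    have hN1 : 1 < Nat.card N := (one_lt_card_iff_ne_bot N).2 hNb
    have hNdvd : Nat.card N ∣ n := (card_subgroup_dvd_card N).trans hcn
    by_cases hsp : s = p
    · left
      refine ⟨N, hNn, ?_⟩
      rcases a with _ | _ | a
      · rw [ha, pow_zero] at hN1; omega
      · rw [ha, zero_add, pow_one, hsp]
      · exfalso
        refine hpn (Dvd.dvd.trans ?_ hNdvd)
        rw [ha, hsp]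
        exact ⟨p ^ a, by ring⟩
    have hpN : ¬ p ∣ Nat.card N := fun h => hsp ((Nat.prime_dvd_prime_iff_eq hp hs).1
      (hp.dvd_of_dvd_pow (ha ▸ h))).symm
    by_cases hNq : ∀ d, d ∣ Nat.card N → d % p = 1 → d = 1
    swap
    · push_neg at hNq
      obtain ⟨d, hd1, hd2, hd3⟩ := hNq
      obtain ⟨e, he, rfl⟩ := (Nat.dvd_prime_pow hs).1 (ha ▸ hd1)
      have hde : s ^ e = q := (hd s e hs (((pow_dvd_pow s he).trans ha.symm.dvd).trans hNdvd)
        hd2).resolve_left hd3
      have hb0 : b ≠ 0 := fun e0 => hd3 (by rw [hde, hb, e0, pow_zero])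
      have hsr : s = r := by
        have h1 : r ∣ s ^ e := hde ▸ hb ▸ dvd_pow_self r hb0
        exact ((Nat.prime_dvd_prime_iff_eq hr hs).1 (hr.dvd_of_dvd_pow h1)).symm
      subst hsr
      have hae : a = e := by
        refine le_antisymm (Nat.le_of_lt_succ (lt_of_not_ge fun hle => hrn ?_)) he
        rw [← hde, ← pow_succ']
        exact (pow_dvd_pow s hle).trans (ha ▸ hNdvd)
      have hNq' : Nat.card N = q := by rw [ha, hae, hde]
      exact Or.inr ⟨hNq' ▸ hN1, N, hNn, hNq', hNc⟩
    have hcard : Nat.card G = Nat.card (G ⧸ N) * Nat.card N :=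
      card_eq_card_quotient_mul_card_subgroup N
    have hlt : Nat.card (G ⧸ N) < c := by
      rw [← hc, hcard]
      exact lt_mul_of_one_lt_right Nat.card_pos hN1
    have hQn : Nat.card (G ⧸ N) ∣ n := (Dvd.intro _ hcard.symm).trans hcn
    have hpQ : p ∣ Nat.card (G ⧸ N) := (hp.dvd_mul.1 (hcard ▸ hpc)).resolve_right hpN
    rcases ih _ hlt (G ⧸ N) rfl hQn hpQ with hP | ⟨hq1, R, hRn, hR, hRc⟩
    · exact Or.inl (lift_normal_prime hp N hpN hNq hP)
    -- the case of a normal Sylow subgroup upstairs
    have hrN : ¬ r ∣ Nat.card N := fun h => hrn ((mul_dvd_mul h hR.symm.dvd).trans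
      ((mul_dvd_mul_left _ (card_subgroup_dvd_card R)).trans (by rw [mul_comm, ← hcard]; exact hcn)))
    set C := centralizer (N : Set G) with hC
    have hCn : C.Normal := inferInstance
    set C' := C.map (QuotientGroup.mk' N) with hC'
    have hC'n : C'.Normal := hCn.map _ (QuotientGroup.mk'_surjective N)
    set X := C' ⊓ R with hX
    have hXn : X.Normal := inferInstance
    have hXp : IsPGroup r X :=
      (IsPGroup.of_card (n := b) (hR.trans hb)).to_le inf_le_right
    obtain ⟨e, he⟩ := IsPGroup.iff_card.1 hXp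
    have hXq : Nat.card X ∣ q := hR ▸ card_dvd_of_le inf_le_right
    by_cases hXR : Nat.card X = q
    · -- `N` is central in the preimage of `R`
      right
      have hRC : R ≤ C' := by
        have := eq_of_le_of_card_ge (inf_le_right : X ≤ R) (by rw [hR, hXR])
        rw [← this]; exact inf_le_left
      set M := R.comap (QuotientGroup.mk' N) with hM
      have hMn : M.Normal := hRn.comap _
      have hNleC : N ≤ C := fun x hx => mem_centralizer_iff.2 fun y hy => hNc y hy x hx
      have hMC : M ≤ C := by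
        refine (comap_mono hRC).trans ?_
        rw [hC', comap_map_eq, QuotientGroup.ker_mk', sup_of_le_left hNleC]
      have hMc : Nat.card M = Nat.card N * q := by rw [hM, Core.card_comap_mk, hR]
      obtain ⟨R₀⟩ : Nonempty (Sylow r M) := Sylow.nonempty
      have hR₀ : Nat.card (R₀ : Subgroup M) = q := by
        rw [Sylow.card_eq_multiplicity, hMc, Nat.factorization_mul (by omega) (by omega),
          Finsupp.add_apply, Nat.factorization_eq_zero_of_not_dvd hrN, zero_add, hb,
          Nat.factorization_pow, Finsupp.smul_apply, Nat.Prime.factorization_self hr]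
        simp
      have hNM : N ≤ M := fun x hx => by
        rw [hM, mem_comap, QuotientGroup.mk'_apply, (QuotientGroup.eq_one_iff x).2 hx]
        exact one_mem _
      have hcop : (Nat.card (N.subgroupOf M)).Coprime (Nat.card (R₀ : Subgroup M)) := by
        rw [Nat.card_congr (subgroupOfEquivOfLe hNM).toEquiv, hR₀, hb]
        exact (Nat.Coprime.pow_right _ ((Nat.Prime.coprime_iff_not_dvd hr).2 hrN).symm)
      have hcompl : IsComplement' (N.subgroupOf M) (R₀ : Subgroup M) :=
        isComplement'_of_coprime (by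
          rw [Nat.card_congr (subgroupOfEquivOfLe hNM).toEquiv, hR₀, hMc]) hcop
      have hR₀n : (R₀ : Subgroup M).Normal := by
        refine normalizer_eq_top_iff.1 (top_le_iff.1 (hcompl.sup_eq_top ▸ sup_le ?_ le_normalizer))
        intro x hx
        refine mem_normalizer_iff.2 fun y => ?_
        have hxy : x * y = y * x := Subtype.ext
          (mem_centralizer_iff.1 (hMC y.2) (x : G) (mem_subgroupOf.1 hx))
        rw [hxy, mul_inv_cancel_right]
      have hR₀c : (R₀ : Subgroup M).Characteristic := R₀.characteristic_of_normal hR₀n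
      refine ⟨hq1, (R₀ : Subgroup M).map M.subtype, inferInstance, by
        rw [card_map_of_injective M.subtype_injective, hR₀], ?_⟩
      rintro _ ⟨x, hx, rfl⟩ _ ⟨y, hy, rfl⟩
      show ((x * y : M) : G) = ((y * x : M) : G)
      have h1 : x * y * (y * x)⁻¹ ∈ N.subgroupOf M := by
        rw [mem_subgroupOf, ← QuotientGroup.eq_one_iff]
        show (QuotientGroup.mk' N) ((x : G) * y * ((y : G) * x)⁻¹) = 1
        rw [map_mul, map_mul, map_inv, map_mul, mul_inv_eq_one]
        exact hRc _ x.2 _ y.2
      have h2 : x * y * (y * x)⁻¹ ∈ (R₀ : Subgroup M) :=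
        mul_mem (mul_mem hx hy) (inv_mem (mul_mem hy hx))
      have h3 : x * y * (y * x)⁻¹ = 1 :=
        mem_bot.1 (hcompl.disjoint.le_bot ⟨h1, h2⟩)
      rw [mul_inv_eq_one.1 h3]
    -- otherwise there is a normal subgroup of order `p`
    left
    refine lift_normal_prime hp N hpN hNq ?_
    have hX1 : ∀ d, d ∣ Nat.card X → d % p = 1 → d = 1 := by
      intro d hd1 hd2
      obtain ⟨i, hi, rfl⟩ := (Nat.dvd_prime_pow hr).1 (he ▸ hd1)
      refine (hd r i hr ((hd1.trans (card_subgroup_dvd_card X)).trans hQn) hd2).resolve_right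
        fun h => hXR (Nat.dvd_antisymm hXq (h ▸ hd1))
    have hpX : ¬ p ∣ Nat.card X := fun h => hrp ((Nat.prime_dvd_prime_iff_eq hp hr).1
      (hp.dvd_of_dvd_pow (he ▸ h))).symm
    have hcard2 : Nat.card (G ⧸ N) = Nat.card ((G ⧸ N) ⧸ X) * Nat.card X :=
      card_eq_card_quotient_mul_card_subgroup X
    by_cases hXb : X = ⊥
    · -- `p` divides the order of `C'`, which avoids `r`
      have hpC : p ∣ Nat.card C' := by
        obtain ⟨x, hx⟩ := exists_prime_orderOf_dvd_card' (G := G) p hpc
        set Z := zpowers x with hZ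
        have hZN : Nat.card (Z ⊔ N : Subgroup G) ∣ p * Nat.card N := by
          have h1 := relIndex_sup_right Z N
          have h2 : Nat.card (Z ⊔ N : Subgroup G) = Nat.card N * N.relIndex (Z ⊔ N) := by
            rw [← relIndex_bot_left, ← relIndex_bot_left,
              relIndex_mul_relIndex _ _ _ bot_le le_sup_right]
          rw [h2, h1, mul_comm]
          exact mul_dvd_mul_right ((relIndex_dvd_card N Z).trans (by rw [hZ, Nat.card_zpowers, hx])) _
        have hxZ : x ∈ Z ⊔ N := (le_sup_left : Z ≤ Z ⊔ N) (mem_zpowers x)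
        have hpd : p ∣ Nat.card (Z ⊔ N : Subgroup G) := hx ▸ Subgroup.orderOf_dvd_natCard _ hxZ
        obtain ⟨m, hm⟩ := hpd
        have hmN : m ∣ Nat.card N := Nat.dvd_of_mul_dvd_mul_left hp.pos (hm ▸ hZN)
        obtain ⟨Q, hQn', -, hQ⟩ := exists_normal_prime (G := (Z ⊔ N : Subgroup G)) hp hm
          (fun h => hpN (h.trans hmN)) (fun d h1 h2 => hNq d (h1.trans hmN) h2)
        have hdis : Disjoint Q (N.subgroupOf (Z ⊔ N)) := by
          refine disjoint_iff.2 (inf_eq_bot_of_coprime ?_)
          rw [hQ, Nat.card_congr (subgroupOfEquivOfLe (le_sup_right : N ≤ Z ⊔ N)).toEquiv]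
          exact (Nat.Prime.coprime_iff_not_dvd hp).2 hpN
        obtain ⟨y, hy⟩ := exists_prime_orderOf_dvd_card' (G := Q) p (by rw [hQ])
        have hyC : ((y : (Z ⊔ N : Subgroup G)) : G) ∈ C := by
          rw [hC, mem_centralizer_iff]
          intro z hz
          have h1 := Subgroup.commute_of_normal_of_disjoint Q (N.subgroupOf (Z ⊔ N)) hQn'
            inferInstance hdis (y : (Z ⊔ N : Subgroup G)) ⟨z, (le_sup_right : N ≤ Z ⊔ N) hz⟩ y.2
            (mem_subgroupOf.2 hz)
          exact (congrArg Subtype.val h1.eq).symm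
        have hyo : orderOf (((y : (Z ⊔ N : Subgroup G)) : G)) = p := by
          rw [Subgroup.orderOf_coe, Subgroup.orderOf_coe, hy]
        have hne : (QuotientGroup.mk' N) ((y : (Z ⊔ N : Subgroup G)) : G) ≠ 1 := fun e1 => by
          rw [QuotientGroup.mk'_apply, QuotientGroup.eq_one_iff] at e1
          exact hpN (hyo ▸ Subgroup.orderOf_dvd_natCard _ e1)
        have h9 : orderOf ((QuotientGroup.mk' N) ((y : (Z ⊔ N : Subgroup G)) : G)) = p :=
          ((Nat.dvd_prime hp).1 (hyo ▸ orderOf_map_dvd _ _)).resolve_left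
            fun e1 => hne (orderOf_eq_one_iff.1 e1)
        exact h9 ▸ Subgroup.orderOf_dvd_natCard _ (mem_map_of_mem _ hyC)
      have hrC : ¬ r ∣ Nat.card C' := by
        intro h
        obtain ⟨z, hz⟩ := exists_prime_orderOf_dvd_card' (G := C') r h
        have hzo : orderOf (z : G ⧸ N) = r := (Subgroup.orderOf_coe z).trans hz
        have hzR : (z : G ⧸ N) ∈ R := by
          rw [← QuotientGroup.eq_one_iff, ← orderOf_eq_one_iff]
          have h1 : orderOf ((z : G ⧸ N) : (G ⧸ N) ⧸ R) ∣ r := hzo ▸ orderOf_map_dvd (QuotientGroup.mk' R) _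
          refine ((Nat.dvd_prime hr).1 h1).resolve_right fun e1 => hrn ?_
          have h2 : r ∣ Nat.card ((G ⧸ N) ⧸ R) := e1 ▸ orderOf_dvd_natCard _
          refine Dvd.dvd.trans ?_ hQn
          rw [card_eq_card_quotient_mul_card_subgroup R, hR]
          exact mul_dvd_mul_right h2 q
        have h1 : (z : G ⧸ N) ∈ X := ⟨z.2, hzR⟩
        rw [hXb, mem_bot] at h1
        rw [h1, orderOf_one] at hzo
        exact hr.ne_one hzo.symm
      have hlt2 : Nat.card C' < c := lt_of_le_of_lt (card_le_card_group C') hlt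
      rcases ih _ hlt2 C' rfl ((card_subgroup_dvd_card C').trans hQn) hpC with
        ⟨P, hPn, hP⟩ | ⟨-, R', -, hR', -⟩
      · have hPc : P.Characteristic := by
          refine characteristic_of_coprime (hP ▸ (Nat.Prime.coprime_iff_not_dvd hp).2 fun h => hpn ?_)
          refine ((mul_dvd_mul hP.symm.dvd h).trans ?_).trans hQn
          rw [P.card_mul_index]
          exact card_subgroup_dvd_card C'
        exact ⟨P.map C'.subtype, inferInstance, by
          rw [card_map_of_injective C'.subtype_injective, hP]⟩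
      · exfalso
        refine hrC ((?_ : r ∣ q).trans (hR' ▸ card_subgroup_dvd_card R'))
        rw [hb]
        exact dvd_pow_self r fun e0 => by rw [hb, e0, pow_zero] at hq1; omega
    · -- a proper nontrivial part of `R`
      refine lift_normal_prime hp X hpX hX1 ?_
      have hlt2 : Nat.card ((G ⧸ N) ⧸ X) < c := by
        refine lt_trans ?_ hlt
        rw [hcard2]
        exact lt_mul_of_one_lt_right Nat.card_pos ((one_lt_card_iff_ne_bot X).2 hXb)
      have hpQ2 : p ∣ Nat.card ((G ⧸ N) ⧸ X) := (hp.dvd_mul.1 (hcard2 ▸ hpQ)).resolve_right hpX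
      rcases ih _ hlt2 _ rfl ((Dvd.intro _ hcard2.symm).trans hQn) hpQ2 with h | ⟨-, R', -, hR', -⟩
      · exact h
      · exfalso
        refine hrn (Dvd.dvd.trans ?_ hQn)
        rw [hcard2, mul_comm r q]
        refine mul_dvd_mul (hR' ▸ card_subgroup_dvd_card R') ?_
        rw [he]
        exact dvd_pow_self r fun e0 => hXb (card_eq_one.1 (by rw [he, e0, pow_zero]))

end Cfsg.Agent.SmallGraph
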